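import Cfsg.Agent.TwoGen.UnitCore
import Cfsg.Agent.Unitary.Commutators

/-!
# Projective special unitary groups are generated by two elements
-/

set_option autoImplicit false
set_option linter.unusedSectionVars false
set_option linter.style.haveILetI false

namespace CfsgLib.TwoGen.Unit

open Matrix Cfsg Cfsg.Geo CfsgLib.Geo CfsgLib.Geo.UTv CfsgLib.Pronormal

variable {F : Type*} [Field F] [Finite F] {q : ℕ} {d : ℕ}

local notation "hh" => Cfsg.hermForm _ F q

theorem el_one_mulVec (P : GL (Fin (d + 2)) F) (t : Fin (d + 2) → Fˣ) (z : Fin (d + 2) → F) :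
    (el P t 1 : Matrix (Fin (d + 2)) (Fin (d + 2)) F) *ᵥ ((P : Matrix (Fin (d + 2)) (Fin (d + 2)) F) *ᵥ z) =
      (P : Matrix (Fin (d + 2)) (Fin (d + 2)) F) *ᵥ fun i => (t i : F) * z i := by
  rw [el, Matrix.mulVec_mulVec, ← Units.val_mul, inv_mul_cancel_right, Units.val_mul, ← Matrix.mulVec_mulVec,
    monoGL, map_one, mul_one, diagGL_val]
  congr 1
  funext i
  rw [Matrix.mulVec_diagonal]

theorem el_pow (P : GL (Fin (d + 2)) F) (t : Fin (d + 2) → Fˣ) (k : ℕ) : el P t 1 ^ k = el P (t ^ k) 1 := by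
  simp only [el, monoGL, map_one, mul_one, map_pow]
  exact map_pow (MulAut.conj P) (diagGL t) k ▸ rfl

theorem vec_ne_zero (P : GL (Fin (d + 2)) F) (i : Fin (d + 2)) : vec P i ≠ 0 := fun e => by
  have h1 := congrArg (fun w => ((P⁻¹ : GL (Fin (d + 2)) F) : Matrix (Fin (d + 2)) (Fin (d + 2)) F) *ᵥ w) e
  simp only [vec, Matrix.mulVec_mulVec, ← Units.val_mul, inv_mul_cancel, Units.val_one, Matrix.one_mulVec,
    Matrix.mulVec_zero] at h1
  have := congrFun h1 i
  simp at this

theorem el_ext {P A B : GL (Fin (d + 2)) F}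
    (h : ∀ i, (A : Matrix (Fin (d + 2)) (Fin (d + 2)) F) *ᵥ vec P i =
      (B : Matrix (Fin (d + 2)) (Fin (d + 2)) F) *ᵥ vec P i) : A = B := by
  refine mul_right_cancel (b := P) (Units.ext ?_)
  refine Matrix.ext_of_mulVec_single fun i => ?_
  rw [Units.val_mul, Units.val_mul, ← Matrix.mulVec_mulVec, ← Matrix.mulVec_mulVec]
  exact h i

theorem smul_mulVec' (P : GL (Fin (d + 2)) F) (c : F) (z : Fin (d + 2) → F) :
    c • ((P : Matrix (Fin (d + 2)) (Fin (d + 2)) F) *ᵥ z) = (P : Matrix (Fin (d + 2)) (Fin (d + 2)) F) *ᵥ (c • z) :=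
  (Matrix.mulVec_smul _ _ _).symm

/-- The cycle for the large cases. -/
def cyc (e : ℕ) : Equiv.Perm (Fin (e + 2 + 2)) where
  toFun i := if h : (i : ℕ) < 2 then ⟨1 - i, by omega⟩
    else if h' : (i : ℕ) + 1 < e + 2 + 2 then ⟨i + 1, h'⟩ else ⟨2, by omega⟩
  invFun i := if h : (i : ℕ) < 2 then ⟨1 - i, by omega⟩
    else if h' : (i : ℕ) = 2 then ⟨e + 3, by omega⟩ else ⟨i - 1, by omega⟩
  left_inv i := by
    have := i.isLt
    rcases Nat.lt_or_ge (i : ℕ) 2 with h | h
    · simp only [dif_pos h, show 1 - (i : ℕ) < 2 by omega, dite_true, Fin.ext_iff]; omega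
    · by_cases h' : (i : ℕ) + 1 < e + 2 + 2
      · simp only [show ¬ (i : ℕ) < 2 by omega, dite_false, dif_pos h', show ¬ (i : ℕ) + 1 < 2 by omega,
          show (i : ℕ) + 1 ≠ 2 by omega, Fin.ext_iff]
        omega
      · simp only [show ¬ (i : ℕ) < 2 by omega, dite_false, dif_neg h', show ¬ (2 : ℕ) < 2 by omega, dite_true,
          Fin.ext_iff]
        omega
  right_inv i := by
    have := i.isLt
    rcases Nat.lt_or_ge (i : ℕ) 2 with h | h
    · simp only [dif_pos h, show 1 - (i : ℕ) < 2 by omega, dite_true, Fin.ext_iff]; omega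
    · by_cases h' : (i : ℕ) = 2
      · simp only [show ¬ (i : ℕ) < 2 by omega, dite_false, dif_pos h', show ¬ e + 3 < 2 by omega,
          show ¬ e + 3 + 1 < e + 2 + 2 by omega, Fin.ext_iff]
        omega
      · simp only [show ¬ (i : ℕ) < 2 by omega, dite_false, dif_neg h', show ¬ (i : ℕ) - 1 < 2 by omega,
          show (i : ℕ) - 1 + 1 < e + 2 + 2 by omega, dite_true, Fin.ext_iff]
        omega


theorem cyc_val (e : ℕ) (i : Fin (e + 2 + 2)) : ((cyc e i : Fin (e + 2 + 2)) : ℕ) =
    if (i : ℕ) < 2 then 1 - (i : ℕ) else if (i : ℕ) + 1 < e + 2 + 2 then (i : ℕ) + 1 else 2 := by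
  simp only [cyc, Equiv.coe_fn_mk]
  split_ifs <;> rfl

variable (hF : Nat.card F = q ^ 2)
include hF

/-- Two generators in dimensions three and four. -/
theorem two_gen_small {e : ℕ} (he : e ≤ 1) (hq3 : 3 ≤ q) :
    ∃ a b : GL (Fin (e + 1 + 2)) F, Subgroup.closure {a, b} = suGL (e + 1 + 2) F q := by
  haveI := Fintype.ofFinite F
  have hf := isUnitaryForm hF (n := e + 1 + 2)
  obtain ⟨P, hP⟩ := exists_frame hF (e + 1)
  obtain ⟨ω, hω⟩ := IsCyclic.exists_generator (α := Fˣ)
  have hord : orderOf ω = q ^ 2 - 1 := by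
    rw [orderOf_eq_card_of_forall_mem_zpowers hω, Nat.card_units, hF]
  have hlt : ∀ k, 0 < k → (ω : F) ^ k = 1 → q ^ 2 - 1 ≤ k := fun k hk h => by
    rw [← hord]
    refine Nat.le_of_dvd hk (orderOf_dvd_of_pow_eq_one (Units.ext ?_))
    rw [Units.val_pow_eq_pow_val, h, Units.val_one]
  have hω0 : (ω : F) ^ (q ^ 2 - 1) = 1 := by
    rw [← Units.val_pow_eq_pow_val, ← hord, pow_orderOf_eq_one, Units.val_one]
  have hq2 : 3 * q ≤ q ^ 2 := by rw [pow_two]; exact Nat.mul_le_mul_right _ hq3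
  have h22 : q ^ 2 - 1 = (q - 1) * (q + 1) := by
    obtain ⟨r, rfl⟩ : ∃ r, q = r + 1 := ⟨q - 1, by omega⟩
    simp only [Nat.add_sub_cancel]
    have : (r + 1) ^ 2 = r * (r + 1 + 1) + 1 := by ring
    omega
  have hωu : ω ^ (q * q) = ω := by
    rw [show q * q = (q ^ 2 - 1) + 1 by rw [← pow_two]; omega, pow_succ, ← hord, pow_orderOf_eq_one, one_mul]
  let t : Fin (e + 1 + 2) → Fˣ := fun i =>
    if (i : ℕ) = 0 then ω else if (i : ℕ) = 1 then (ω ^ q)⁻¹ else if (i : ℕ) = 2 then ω ^ (q - 1) else 1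
  let tn : Fin (e + 1 + 2) → Fˣ := fun i => if (i : ℕ) = 2 then -1 else 1
  have hsw : ∀ i : Fin (e + 1 + 2), ((sw (e + 1) i : Fin (e + 1 + 2)) : ℕ) =
      if (i : ℕ) = 0 then 1 else if (i : ℕ) = 1 then 0 else (i : ℕ) := fun i => by
    simp only [sw, Equiv.swap_apply_def, Fin.ext_iff, Fin.val_zero, Fin.val_one]
    split_ifs <;> simp_all
  have htt : ∀ i, t i * t (sw (e + 1) i) ^ q = 1 := fun i => by
    simp only [t, hsw]
    rcases eq_or_ne (i : ℕ) 0 with h0 | h0
    · simp only [h0, if_true, one_ne_zero, if_false]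
      rw [inv_pow, ← pow_mul, hωu, mul_inv_cancel]
    rcases eq_or_ne (i : ℕ) 1 with h1 | h1
    · simp only [h1, if_true, one_ne_zero, if_false]
      rw [inv_mul_cancel]
    simp only [h0, h1, if_false]
    split_ifs with h2
    · rw [← pow_mul, ← pow_add, show q - 1 + (q - 1) * q = (q - 1) * (q + 1) by ring, ← h22, ← hord,
        pow_orderOf_eq_one]
    · simp
  have hhm : el P t 1 ∈ suGL (e + 1 + 2) F q := by
    refine el_mem hF hP (fun i => rfl) (fun i => ?_) ?_
    · rw [← Units.val_pow_eq_pow_val, ← Units.val_mul, htt, Units.val_one]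
    · rw [map_one, Units.val_one, Int.cast_one, mul_one, ← Units.coe_prod, Fin.prod_univ_succ, Fin.prod_univ_succ,
        Fin.prod_univ_succ, Finset.prod_eq_one fun i _ => ?_]
      · simp only [t, Fin.val_zero, if_true, Fin.val_succ, zero_add, one_ne_zero, if_false, mul_one]
        rw [show (1 : ℕ) + 1 = 2 by rfl]
        simp only [if_true, OfNat.ofNat_ne_zero, OfNat.ofNat_ne_one, if_false]
        rw [show ω * ((ω ^ q)⁻¹ * ω ^ (q - 1)) = ω ^ ((q - 1) + 1) * (ω ^ q)⁻¹ by rw [pow_succ]; ac_rfl,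
          show q - 1 + 1 = q by omega, mul_inv_cancel, Units.val_one]
      · simp [t, Fin.val_succ]
  have hnm : el P tn (sw (e + 1)) ∈ suGL (e + 1 + 2) F q := by
    refine el_mem hF hP (fun i => rfl) (fun i => ?_) ?_
    · simp only [tn, hsw]
      have hm1 : ((-1 : F)) * (-1) ^ q = 1 := by
        rw [← CfsgLib.Forms.frobQ_apply hF, map_neg, map_one]; ring
      rcases eq_or_ne (i : ℕ) 0 with h0 | h0
      · simp [h0]
      rcases eq_or_ne (i : ℕ) 1 with h1 | h1
      · simp [h1]
      simp only [h0, h1, if_false]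
      split_ifs <;> simp [hm1]
    · rw [show Equiv.Perm.sign (sw (e + 1)) = -1 from Equiv.Perm.sign_swap (by simp)]
      rw [Fin.prod_univ_succ, Fin.prod_univ_succ, Fin.prod_univ_succ, Finset.prod_eq_one fun i _ => ?_]
      · simp [tn, Fin.val_succ]
      · simp [tn, Fin.val_succ]
  set h := el P t 1
  set n := el P tn (sw (e + 1))
  set v := vec P (0 : Fin (e + 1 + 2))
  have hv : hh v v = 0 := by rw [herm_vec hF hP, if_neg (by simp [sw])]
  let x0' : Fin (e + 1 + 2) → F := fun i => if 2 ≤ (i : ℕ) then 1 else 0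
  set x0 := (P : Matrix (Fin (e + 1 + 2)) (Fin (e + 1 + 2)) F) *ᵥ x0' with hx0
  have hherm0 : ∀ z : Fin (e + 1 + 2) → F, hh ((P : Matrix (Fin (e + 1 + 2)) (Fin (e + 1 + 2)) F) *ᵥ z) v = z 1 := by
    intro z
    show Cfsg.hermForm _ F q _ ((P : Matrix (Fin (e + 1 + 2)) (Fin (e + 1 + 2)) F) *ᵥ Pi.single 0 1) = _
    rw [hP, Finset.sum_eq_single 1]
    · simp [sw]
    · intro k _ hk
      rw [Pi.single_eq_of_ne, zero_pow (by omega), mul_zero]
      intro e'
      exact hk ((sw (e + 1)).injective (e'.trans (by simp [sw])))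
    · simp
  have hx0v : hh x0 v = 0 := by rw [hx0, hherm0]; simp [x0']
  obtain ⟨s, hs⟩ := CfsgLib.Unitary.exists_root hF (μ := hh x0 x0) (CfsgLib.Unitary.herm_self_fixed hF x0)
  obtain ⟨x, hxm, hx⟩ := exists_eich hF hv hx0v hs
  refine ⟨h, x * n, le_antisymm ((Subgroup.closure_le _).2 ?_) ?_⟩
  · rintro g (rfl | rfl)
    · exact hhm
    · exact mul_mem hxm hnm
  set S := Subgroup.closure {h, x * n}
  have hhS : h ∈ S := Subgroup.subset_closure (Or.inl rfl)
  have hbS : x * n ∈ S := Subgroup.subset_closure (Or.inr rfl)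
  have hS : S ≤ suGL (e + 1 + 2) F q := (Subgroup.closure_le _).2 (by
    rintro g (rfl | rfl)
    · exact hhm
    · exact mul_mem hxm hnm)
  set u := el P (fun i => t (sw (e + 1) i)) 1
  have hnh : n * h = u * n := el_ext (P := P) fun i => by
    simp only [mul_mulVec, el_vec hF, Matrix.mulVec_smul, n, h, u, Equiv.Perm.one_apply, smul_smul]
    simp only [sw, Equiv.swap_apply_self]
    rw [mul_comm]
  have hu : u = (h ^ q)⁻¹ := by
    rw [el_pow]
    refine eq_inv_of_mul_eq_one_left (el_ext (P := P) fun i => ?_)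
    rw [mul_mulVec, el_vec hF, Equiv.Perm.one_apply, Matrix.mulVec_smul, el_vec hF, Equiv.Perm.one_apply,
      smul_smul, Units.val_one, Matrix.one_mulVec, Pi.pow_apply, ← Units.val_mul]
    have := htt (sw (e + 1) i)
    rw [sw, Equiv.swap_apply_self] at this
    rw [mul_comm, sw, this, Units.val_one, one_smul]
  have huS : u ∈ S := hu ▸ inv_mem (pow_mem hhS q)
  have hC : x * u * x⁻¹ * u⁻¹ ∈ S := by
    have h1 := mul_mem (mul_mem (mul_mem hbS hhS) (inv_mem hbS)) (inv_mem huS)
    rwa [show x * n * h * (x * n)⁻¹ = x * u * x⁻¹ by rw [mul_assoc x n h, hnh]; group] at h1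
  let g : Fin (e + 1 + 2) → F := fun i => (ω : F) ^ q * t i
  let g' : Fin (e + 1 + 2) → F := fun i => ((t 1 : Fˣ) : F) ^ q * (t (sw (e + 1) i) : F)
  let Y : Fin (e + 1 + 2) → F := fun i => if 2 ≤ (i : ℕ) then 1 - g' i else 0
  let M : AddSubgroup (Fin (e + 1 + 2) → F) :=
    { carrier := {z | z 0 = 0 ∧ z 1 = 0 ∧ VP q S v ((P : Matrix (Fin (e + 1 + 2)) (Fin (e + 1 + 2)) F) *ᵥ z)}
      zero_mem' := ⟨rfl, rfl, by rw [Matrix.mulVec_zero]; simpa using VP.centre hF (M := S) hv 0⟩
      add_mem' := fun {a b} ha hb => ⟨by simp [ha.1, hb.1], by simp [ha.2.1, hb.2.1], by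
        rw [Matrix.mulVec_add]; exact ha.2.2.add hF hv hb.2.2⟩
      neg_mem' := fun {a} ha => ⟨by simp [ha.1], by simp [ha.2.1], by
        rw [Matrix.mulVec_neg]; exact ha.2.2.neg hF hv⟩ }
  have hY : Y ∈ M := by
    refine ⟨by simp [Y], by simp [Y], by rw [hherm0]; simp [Y], x * u * x⁻¹ * u⁻¹, hC, ?_⟩
    have hxi := hx.inv hF hv hx0v
    have hum : u ∈ suGL (e + 1 + 2) F q := hS huS
    have hc := hxi.conj hum
    have ev0 : (u : Matrix (Fin (e + 1 + 2)) (Fin (e + 1 + 2)) F) *ᵥ v = ((t 1 : Fˣ) : F) • v := by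
      rw [el_vec hF, Equiv.Perm.one_apply]; simp [sw, v]
    rw [ev0] at hc
    have hc' := eich_scale hF hc
    have hneg : hh (((t 1 : Fˣ) : F) ^ q • ((u : Matrix (Fin (e + 1 + 2)) (Fin (e + 1 + 2)) F) *ᵥ -x0)) v = 0 := by
      rw [Matrix.mulVec_neg, hx0, el_one_mulVec, ← Matrix.mulVec_neg, smul_mulVec', hherm0]
      simp [x0']
    have hm := hx.mul hF hv hneg hx0v hc'
    rw [show x * (u * x⁻¹ * u⁻¹) = x * u * x⁻¹ * u⁻¹ by group] at hm
    have eY : x0 + ((t 1 : Fˣ) : F) ^ q • ((u : Matrix (Fin (e + 1 + 2)) (Fin (e + 1 + 2)) F) *ᵥ -x0) =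
        (P : Matrix (Fin (e + 1 + 2)) (Fin (e + 1 + 2)) F) *ᵥ Y := by
      rw [Matrix.mulVec_neg, hx0, el_one_mulVec, ← Matrix.mulVec_neg, smul_mulVec', ← Matrix.mulVec_add]
      congr 1
      funext i
      simp only [Pi.add_apply, Pi.smul_apply, Pi.neg_apply, smul_eq_mul, x0', Y, g']
      split_ifs <;> ring
    rw [← eY]
    exact ⟨_, hm⟩
  have hG : ∀ z ∈ M, (fun i => g i * z i) ∈ M := by
    intro z hz
    refine ⟨by simp [hz.1], by simp [hz.2.1], ?_⟩
    have hhv : (h : Matrix (Fin (e + 1 + 2)) (Fin (e + 1 + 2)) F) *ᵥ v = (ω : F) • v := by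
      rw [el_vec hF, Equiv.Perm.one_apply]; simp [t, v]
    have := vp_conj hF hS hhS (m := (1 : F))
      (z := (h : Matrix (Fin (e + 1 + 2)) (Fin (e + 1 + 2)) F) *ᵥ
        ((P : Matrix (Fin (e + 1 + 2)) (Fin (e + 1 + 2)) F) *ᵥ z)) hhv (one_smul F _).symm hz.2.2
      (by rw [el_one_mulVec, mul_one, smul_mulVec', hherm0]; simp [hz.2.1])
    rw [el_one_mulVec, mul_one, smul_mulVec'] at this
    convert this using 2
    funext i
    simp [g, mul_assoc]
  have hline : ∀ i : Fin (e + 1 + 2), 2 ≤ (i : ℕ) → ∀ c : F, c ≠ 0 → Pi.single i c ∈ M →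
      (∀ k, 0 < k → g i ^ k = 1 → q - 1 < k) → ∀ d' : F, Pi.single i d' ∈ M := by
    intro i hi c hc hm ho
    let L : AddSubgroup F :=
      { carrier := {c | Pi.single i c ∈ M}
        zero_mem' := by show Pi.single i (0 : F) ∈ M; rw [Pi.single_zero]; exact zero_mem M
        add_mem' := fun {a b} ha hb => by
          show Pi.single i (a + b) ∈ M; rw [Pi.single_add]; exact add_mem ha hb
        neg_mem' := fun {a} ha => by show Pi.single i (-a) ∈ M; rw [Pi.single_neg]; exact neg_mem ha }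
    have hL : L = ⊤ := add_top_of_mul hF (g := g i) (mul_ne_zero (pow_ne_zero _ ω.ne_zero) (Units.ne_zero _)) ho
      (show c ∈ L from hm) hc fun y hy => by
        show Pi.single i (g i * y) ∈ M
        convert hG _ hy using 1
        funext k
        by_cases hk : k = i
        · subst hk; simp
        · simp [hk]
    intro d'
    have : d' ∈ L := by rw [hL]; trivial
    exact this
  have hg2 : ∀ k, 0 < k → g ⟨2, by omega⟩ ^ k = 1 → q - 1 < k := by
    intro k hk h1
    have h1' : (ω : F) ^ ((2 * q - 1) * k) = 1 := by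
      rw [← h1, pow_mul]
      congr 1
      simp only [g, t]
      simp
      rw [← pow_add]
      congr 1
      omega
    have h3 : (ω : F) ^ (3 * k) = 1 := by
      have h4 := congrArg (· ^ (2 * q + 1)) h1'
      simp only [one_pow, ← pow_mul] at h4
      rw [show (2 * q - 1) * k * (2 * q + 1) = 4 * k * (q ^ 2 - 1) + 3 * k by
        obtain ⟨r, rfl⟩ : ∃ r, q = r + 1 := ⟨q - 1, by omega⟩
        rw [show 2 * (r + 1) - 1 = 2 * r + 1 by omega,
          show (r + 1) ^ 2 - 1 = r ^ 2 + 2 * r by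
            have : (r + 1) ^ 2 = r ^ 2 + 2 * r + 1 := by ring
            omega]
        ring, pow_add, mul_comm (4 * k), pow_mul, hω0, one_pow, one_mul] at h4
      exact h4
    have := hlt _ (by omega) h3
    omega
  have hY2 : Y ⟨2, by omega⟩ ≠ 0 := by
    simp only [Y, le_refl, if_true]
    rw [sub_ne_zero, Ne, eq_comm]
    intro h1
    have e2 : g' ⟨2, by omega⟩ = (g' ⟨2, by omega⟩) := rfl
    simp only [g', hsw, t] at h1
    simp at h1
    rw [← pow_mul, show (ω : F) ^ (q * q) = ω by rw [← Units.val_pow_eq_pow_val, hωu], inv_mul_eq_one₀ ω.ne_zero] at h1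
    have h2 : (ω : F) ^ (q - 2) = 1 := by
      refine mul_right_cancel₀ ω.ne_zero ?_
      rw [one_mul, ← pow_succ, show q - 2 + 1 = q - 1 by omega]
      exact h1.symm
    have := hlt _ (by omega) h2
    omega
  have hsingle : ∀ i : Fin (e + 1 + 2), 2 ≤ (i : ℕ) → ∀ c : F, Pi.single i c ∈ M := by
    rcases Nat.eq_zero_or_pos e with rfl | he0
    · intro i hi
      have hiv : i = ⟨2, by omega⟩ := Fin.ext (by have := i.isLt; simp only; omega)
      rw [hiv]
      refine hline _ (le_refl _) _ hY2 ?_ hg2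
      convert hY using 1
      funext k
      by_cases hk : k = ⟨2, by omega⟩
      · subst hk; simp
      · have : ¬ 2 ≤ (k : ℕ) := fun h => hk (Fin.ext (by have := k.isLt; simp only; omega))
        rw [Pi.single_eq_of_ne hk]
        simp [Y, this]
    · obtain rfl : e = 1 := by omega
      set j2 : Fin (1 + 1 + 2) := ⟨2, by omega⟩ with hj2
      set j3 : Fin (1 + 1 + 2) := ⟨3, by omega⟩ with hj3
      have h01 : j2 ≠ j3 := by simp [hj2, hj3, Fin.ext_iff]
      have hg3 : g j3 = (ω : F) ^ q := by simp [g, t, hj3]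
      have hg3' : ∀ k, 0 < k → g j3 ^ k = 1 → q - 1 < k := by
        intro k hk h1
        rw [hg3, ← pow_mul] at h1
        have h2 := congrArg (· ^ q) h1
        simp only [one_pow, ← pow_mul] at h2
        rw [mul_right_comm, pow_mul, show (ω : F) ^ (q * q) = ω by rw [← Units.val_pow_eq_pow_val, hωu]] at h2
        have := hlt k hk h2
        omega
      have hg2v : g j2 = (ω : F) ^ (2 * q - 1) := by
        simp [g, t, hj2]
        rw [← pow_add]
        congr 1
        omega
      have hext : ∀ z ∈ M, z = Pi.single j2 (z j2) + Pi.single j3 (z j3) := by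
        intro z hz
        funext k
        fin_cases k <;> simp [hj2, hj3, hz.1, hz.2.1, Fin.ext_iff, Pi.single_apply]
      let Rs : Subring F :=
        { carrier := {r | ∀ z ∈ M, r • z ∈ M}
          one_mem' := fun z hz => by rwa [one_smul]
          mul_mem' := fun {a b} ha hb z hz => by rw [← smul_smul]; exact ha _ (hb z hz)
          zero_mem' := fun z _ => by rw [zero_smul]; exact zero_mem M
          add_mem' := fun {a b} ha hb z hz => by rw [add_smul]; exact add_mem (ha z hz) (hb z hz)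
          neg_mem' := fun {a} ha z hz => by rw [neg_smul]; exact neg_mem (ha z hz) }
      have hξ : (ω : F) ^ (q + 1) ∈ Rs := by
        intro z hz
        have hpow : ∀ k : ℕ, (fun i => g i ^ k * z i) ∈ M := by
          intro k
          induction k with
          | zero => simpa using hz
          | succ k ih =>
            convert hG _ ih using 1
            funext i
            rw [pow_succ]; ring
        convert hpow (q + 1) using 1
        funext k
        have hN : ∀ a : ℕ, a * (q + 1) = (q + 1) + (q ^ 2 - 1) * (if a = q then 1 else 2) →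
            ((ω : F) ^ a) ^ (q + 1) = (ω : F) ^ (q + 1) := fun a ha => by
          rw [← pow_mul, ha, pow_add, pow_mul, hω0, one_pow, mul_one]
        by_cases hk2 : k = j2
        · subst hk2
          rw [hg2v, hN, Pi.smul_apply, smul_eq_mul]
          rw [if_neg (by omega)]
          obtain ⟨r, rfl⟩ : ∃ r, q = r + 1 := ⟨q - 1, by omega⟩
          rw [h22, show 2 * (r + 1) - 1 = 2 * r + 1 by omega, Nat.add_sub_cancel]
          ring
        by_cases hk3 : k = j3
        · subst hk3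
          rw [hg3, hN, Pi.smul_apply, smul_eq_mul]
          rw [if_pos rfl, h22]
          obtain ⟨r, rfl⟩ : ∃ r, q = r + 1 := ⟨q - 1, by omega⟩
          rw [Nat.add_sub_cancel]
          ring
        have : z k = 0 := by
          rw [hext z hz]; simp [Pi.single_eq_of_ne hk2, Pi.single_eq_of_ne hk3]
        simp [this]
      set t1 := g j2 + g j2 ^ q with ht1
      have ht1R : t1 ∈ Rs := by
        have hfix : t1 ^ q = t1 := by
          rw [ht1, ← CfsgLib.Forms.frobQ_apply hF, map_add, CfsgLib.Forms.frobQ_apply, CfsgLib.Forms.frobQ_apply,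
            pow_q_q hF, add_comm]
        rcases eq_or_ne t1 0 with h0 | h0
        · rw [h0]; exact zero_mem Rs
        obtain ⟨k, hk⟩ := (mem_powers_iff_mem_zpowers).2 (hω (Units.mk0 t1 h0))
        simp only at hk
        have h1 : ω ^ (k * (q - 1)) = 1 := by
          rw [pow_mul, hk]
          refine Units.ext (mul_right_cancel₀ h0 ?_)
          rw [Units.val_pow_eq_pow_val, Units.val_mk0, ← pow_succ, show q - 1 + 1 = q by omega, hfix, Units.val_one, one_mul]
        obtain ⟨j, hj⟩ : q + 1 ∣ k := by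
          have := orderOf_dvd_of_pow_eq_one h1
          rw [hord, h22, mul_comm k] at this
          exact Nat.dvd_of_mul_dvd_mul_left (by omega) this
        have e1 : t1 = ((ω : F) ^ (q + 1)) ^ j := by
          rw [← pow_mul, ← hj, ← Units.val_pow_eq_pow_val, hk, Units.val_mk0]
        rw [e1]
        exact pow_mem hξ j
      have hz : (fun i => g i * (g i * Y i)) - t1 • (fun i => g i * Y i) + (ω : F) ^ (q + 1) • Y ∈ M :=
        add_mem (sub_mem (hG _ (hG _ hY)) (ht1R _ (hG _ hY))) (hξ _ hY)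
      set z := (fun i => g i * (g i * Y i)) - t1 • (fun i => g i * Y i) + (ω : F) ^ (q + 1) • Y
      have hξ2 : (ω : F) ^ (q + 1) = g j2 * g j2 ^ q := by
        rw [hg2v, ← pow_mul, ← pow_add, show (2 * q - 1) + (2 * q - 1) * q = (q + 1) + (q ^ 2 - 1) * 2 by
          obtain ⟨r, rfl⟩ : ∃ r, q = r + 1 := ⟨q - 1, by omega⟩
          rw [h22, show 2 * (r + 1) - 1 = 2 * r + 1 by omega, Nat.add_sub_cancel]
          ring, pow_add _ (q + 1) ((q ^ 2 - 1) * 2), pow_mul _ (q ^ 2 - 1) 2, hω0, one_pow, mul_one]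
      have hz2 : z j2 = 0 := by
        simp only [z, Pi.add_apply, Pi.sub_apply, Pi.smul_apply, smul_eq_mul, ht1, hξ2]; ring
      have hzj : z = Pi.single j3 (z j3) := by
        conv_lhs => rw [hext z hz, hz2, Pi.single_zero, zero_add]
      have hY3 : Y j3 ≠ 0 := by
        simp only [Y, hj3]
        rw [if_pos (by norm_num), sub_ne_zero, Ne, eq_comm]
        intro h1
        have hs3 : sw (1 + 1) j3 = j3 := Fin.ext (by rw [hsw]; simp [hj3])
        rw [← hj3] at h1
        simp only [g', hs3] at h1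
        simp [t, hj3] at h1
        rw [← pow_mul, show (ω : F) ^ (q * q) = ω by rw [← Units.val_pow_eq_pow_val, hωu]] at h1
        have := hlt 1 one_pos (by rw [pow_one]; exact h1)
        omega
      have hz3 : z j3 ≠ 0 := by
        have e : z j3 = (g j3 - g j2) * (g j3 - g j2 ^ q) * Y j3 := by
          simp only [z, Pi.add_apply, Pi.sub_apply, Pi.smul_apply, smul_eq_mul, ht1, hξ2]; ring
        rw [e]
        refine mul_ne_zero (mul_ne_zero (sub_ne_zero.2 fun h1 => ?_) (sub_ne_zero.2 fun h1 => ?_)) hY3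
        · rw [hg3, hg2v, show 2 * q - 1 = q + (q - 1) by omega, pow_add] at h1
          have h2 : (ω : F) ^ (q - 1) = 1 :=
            mul_left_cancel₀ (pow_ne_zero q ω.ne_zero) (by rw [mul_one]; exact h1.symm)
          have := hlt _ (by omega) h2
          omega
        · rw [hg3, hg2v] at h1
          have h2 := congrArg (· ^ q) h1
          simp only [pow_q_q hF] at h2
          have h3 : (ω : F) ^ (2 * q - 2) = 1 := by
            refine mul_right_cancel₀ ω.ne_zero ?_
            rw [one_mul, ← pow_succ, show 2 * q - 2 + 1 = 2 * q - 1 by omega]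
            exact h2.symm
          have := hlt _ (by omega) h3
          omega
      have hall3 := hline j3 (by simp [hj3]) _ hz3 (hzj ▸ hz) hg3'
      have hY2' : Pi.single j2 (Y j2) ∈ M := by
        have h1 := hext Y hY
        rw [show Pi.single j2 (Y j2) = Y - Pi.single j3 (Y j3) from eq_sub_of_add_eq h1.symm]
        exact sub_mem hY (hall3 _)
      have hall2 := hline j2 (by simp [hj2]) _ hY2 hY2' hg2
      intro i hi
      rcases Nat.lt_or_ge (i : ℕ) 3 with h2 | h2
      · rw [show i = j2 from Fin.ext (by simp [hj2]; omega)]; exact hall2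
      · rw [show i = j3 from Fin.ext (by have := i.isLt; simp [hj3]; omega)]; exact hall3
  have hvp : ∀ i : Fin (e + 1 + 2), 2 ≤ (i : ℕ) → ∀ c : F, VP q S v (c • vec P i) := fun i hi c => by
    have := (hsingle i hi c).2.2
    rwa [vec, smul_mulVec', ← Pi.single_smul, smul_eq_mul, mul_one]
  have h2v : hh (vec P ⟨2, by omega⟩) v = 0 := by
    rw [herm_vec hF hP, if_neg]
    rw [sw, Equiv.swap_apply_of_ne_of_ne] <;> simp [Fin.ext_iff]
  have h22' : hh (vec P ⟨2, by omega⟩) (vec P ⟨2, by omega⟩) = 1 := by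
    rw [herm_vec hF hP, if_pos]
    rw [sw, Equiv.swap_apply_of_ne_of_ne] <;> simp [Fin.ext_iff]
  have hfull : Full q S v := full_of_line hF hv h2v h22' (hvp ⟨2, by omega⟩ le_rfl)
  have hxS : x ∈ S := by
    refine eich_mem_of_full hF hS hfull (vec_ne_zero P 0) ?_ hx hxm
    have hmem : x0' ∈ M := by
      rw [show x0' = ∑ i, Pi.single i (x0' i) from (Finset.univ_sum_single x0').symm]
      refine sum_mem fun i _ => ?_
      by_cases hi : 2 ≤ (i : ℕ)
      · exact hsingle i hi _
      · simp [x0', hi]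
    exact hmem.2.2
  have hnS : n ∈ S := by simpa using mul_mem (inv_mem hxS) hbS
  refine suGL_le hF hP hS (by omega) (fun _ => by omega) hvp hnS (a := 1) one_ne_zero ?_
  rw [el_vec hF]
  simp [tn, sw]

/-- Two generators in the large dimensions. -/
theorem two_gen_large {e : ℕ} (hcase : 1 ≤ e ∨ q = 2) :
    ∃ a b : GL (Fin (e + 2 + 2)) F, Subgroup.closure {a, b} = suGL (e + 2 + 2) F q := by
  haveI := Fintype.ofFinite F
  have hq := CfsgLib.Forms.two_le_q hF
  have hf := isUnitaryForm hF (n := e + 2 + 2)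
  obtain ⟨P, hP⟩ := exists_frame hF (e + 2)
  obtain ⟨ω, hω⟩ := IsCyclic.exists_generator (α := Fˣ)
  have hord : orderOf ω = q ^ 2 - 1 := by
    rw [orderOf_eq_card_of_forall_mem_zpowers hω, Nat.card_units, hF]
  have h22 : q ^ 2 - 1 = (q - 1) * (q + 1) := by
    obtain ⟨r, rfl⟩ : ∃ r, q = r + 1 := ⟨q - 1, by omega⟩
    simp only [Nat.add_sub_cancel]
    have : (r + 1) ^ 2 = r * (r + 1 + 1) + 1 := by ring
    omega
  have hωu : ω ^ (q * q) = ω := by
    have : 1 ≤ q ^ 2 := Nat.one_le_pow _ _ (by omega)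
    rw [show q * q = (q ^ 2 - 1) + 1 by rw [← pow_two]; omega, pow_succ, ← hord, pow_orderOf_eq_one, one_mul]
  set δ : Fˣ := ω ^ (q - 1)
  have hδ : δ ^ (q + 1) = 1 := by rw [← pow_mul, ← h22, ← hord, pow_orderOf_eq_one]
  have hδo : ∀ k, 0 < k → (δ : F) ^ k = 1 → q - 1 < k := fun k hk h1 => by
    have h2 : ω ^ ((q - 1) * k) = 1 := by
      rw [pow_mul]; exact Units.ext (by rw [Units.val_pow_eq_pow_val, h1, Units.val_one])
    have := Nat.le_of_dvd (Nat.mul_pos (by omega) hk) (orderOf_dvd_of_pow_eq_one h2)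
    rw [hord, h22] at this
    have := Nat.le_of_mul_le_mul_left this (by omega)
    omega
  set A : Fˣ := if 1 ≤ e then 1 else ω
  set sg' : Fˣ := Units.map (Int.castRingHom F).toMonoidHom (Equiv.Perm.sign (cyc e))
  let tn : Fin (e + 2 + 2) → Fˣ := fun i =>
    if (i : ℕ) = 0 then A else if (i : ℕ) = 1 then (A⁻¹) ^ q else if (i : ℕ) = 2 then sg' * A ^ (q - 1) else 1
  let t : Fin (e + 2 + 2) → Fˣ := fun i =>
    if 1 ≤ e then (if (i : ℕ) = 3 then δ else if (i : ℕ) = 4 then δ⁻¹ else 1) else 1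
  have hsw : ∀ i : Fin (e + 2 + 2), ((sw (e + 2) i : Fin (e + 2 + 2)) : ℕ) =
      if (i : ℕ) = 0 then 1 else if (i : ℕ) = 1 then 0 else (i : ℕ) := fun i => by
    simp only [sw, Equiv.swap_apply_def, Fin.ext_iff, Fin.val_zero, Fin.val_one]
    split_ifs <;> simp_all
  have hA2 : A ^ (q * q) = A := by
    simp only [A]; split_ifs
    · simp
    · exact hωu
  have hsg : sg' * sg' ^ q = 1 := Units.ext (by
    rcases Int.units_eq_one_or (Equiv.Perm.sign (cyc e)) with h | h
    · simp [sg', h]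
    · simp only [sg', h, Units.val_mul, Units.val_pow_eq_pow_val]
      rw [← CfsgLib.Forms.frobQ_apply hF]
      simp)
  have hsg2 : (sg' : F) * sg' = 1 := by
    rcases Int.units_eq_one_or (Equiv.Perm.sign (cyc e)) with h | h <;> simp [sg', h]
  have hA1 : (A ^ (q - 1)) * (A ^ (q - 1)) ^ q = 1 := by
    have e1 : A ^ (q - 1) * A = A ^ q := by rw [← pow_succ]; congr 1; omega
    have e2 : (A ^ (q - 1)) ^ q * A ^ q = A := by rw [← mul_pow, e1, ← pow_mul, hA2]
    calc (A ^ (q - 1)) * (A ^ (q - 1)) ^ q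
        = (A ^ (q - 1) * A) * ((A ^ (q - 1)) ^ q * A ^ q) * (A ^ q * A)⁻¹ := by
          rw [_root_.mul_inv_rev]; group
      _ = 1 := by rw [e1, e2, mul_inv_cancel]
  have htn : ∀ i, tn i * tn (sw (e + 2) i) ^ q = 1 := fun i => by
    simp only [tn, hsw]
    rcases eq_or_ne (i : ℕ) 0 with h0 | h0
    · simp only [h0, if_true, one_ne_zero, if_false]
      rw [← pow_mul, inv_pow, hA2, mul_inv_cancel]
    rcases eq_or_ne (i : ℕ) 1 with h1 | h1
    · simp only [h1, if_true, one_ne_zero, if_false]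
      rw [inv_pow, inv_mul_cancel]
    simp only [h0, h1, if_false]
    split_ifs with h2
    · rw [mul_pow, mul_mul_mul_comm, hsg, hA1, one_mul]
    · simp
  have ht : ∀ i, t i * t (sw (e + 2) i) ^ q = 1 := fun i => by
    simp only [t, hsw]
    by_cases he : 1 ≤ e
    · simp only [if_pos he]
      rcases eq_or_ne (i : ℕ) 0 with h0 | h0
      · simp [h0]
      rcases eq_or_ne (i : ℕ) 1 with h1 | h1
      · simp [h1]
      simp only [h0, h1, if_false]
      split_ifs
      · rw [← pow_succ']; exact hδ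
      · rw [← pow_succ', inv_pow, hδ, inv_one]
      · simp
    · simp [he]
  have hbm : el P tn (cyc e) ∈ suGL (e + 2 + 2) F q := by
    refine el_mem hF hP (fun i => Fin.ext ?_) (fun i => ?_) ?_
    · have := i.isLt
      simp only [cyc_val, hsw]
      rcases Nat.lt_or_ge (i : ℕ) 2 with h2 | h2
      · rcases (show (i : ℕ) = 0 ∨ (i : ℕ) = 1 by omega) with h0 | h0 <;> simp [h0]
      · simp only [show (i : ℕ) ≠ 0 by omega, show (i : ℕ) ≠ 1 by omega, show ¬ (i : ℕ) < 2 by omega, if_false]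
        by_cases h3 : (i : ℕ) + 1 < e + 2 + 2
        · simp only [if_pos h3]; rw [if_neg (by omega), if_neg (by omega)]
        · simp only [if_neg h3]; rw [if_neg (by omega), if_neg (by omega)]
    · rw [← Units.val_pow_eq_pow_val, ← Units.val_mul, htn, Units.val_one]
    · rw [Fin.prod_univ_succ, Fin.prod_univ_succ, Fin.prod_univ_succ, Finset.prod_eq_one fun i _ => ?_]
      · simp only [tn, Fin.val_zero, Fin.val_succ, zero_add, Nat.reduceAdd, if_true, one_ne_zero, OfNat.ofNat_ne_zero,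
          OfNat.ofNat_ne_one, if_false, mul_one, Units.val_mul, Units.val_inv_eq_inv_val, Units.val_pow_eq_pow_val]
        have e1 : ((Equiv.Perm.sign (cyc e) : ℤ) : F) = (sg' : F) := rfl
        rw [e1]
        have e2 : (A : F) * (((A : F) ^ q)⁻¹ * (A : F) ^ (q - 1)) = 1 := by
          rw [show (A : F) * (((A : F) ^ q)⁻¹ * (A : F) ^ (q - 1)) = (A : F) ^ (q - 1 + 1) * ((A : F) ^ q)⁻¹ by
            rw [pow_succ]; ring, show q - 1 + 1 = q by omega, mul_inv_cancel₀ (pow_ne_zero _ A.ne_zero)]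
        linear_combination ((sg' : F) * sg') * e2 + hsg2
      · simp [tn, Fin.val_succ]
  have hhm : el P t 1 ∈ suGL (e + 2 + 2) F q := by
    refine el_mem hF hP (fun i => rfl) (fun i => ?_) ?_
    · rw [← Units.val_pow_eq_pow_val, ← Units.val_mul, ht, Units.val_one]
    · rw [map_one, Units.val_one, Int.cast_one, mul_one, ← Units.coe_prod]
      by_cases he : 1 ≤ e
      · rw [← Finset.mul_prod_erase _ _ (Finset.mem_univ (⟨3, by omega⟩ : Fin (e + 2 + 2))),
          ← Finset.mul_prod_erase _ _ (Finset.mem_erase.2 ⟨by simp [Fin.ext_iff],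
            Finset.mem_univ (⟨4, by omega⟩ : Fin (e + 2 + 2))⟩),
          Finset.prod_eq_one fun i hi => ?_]
        · simp [t, he]
        · simp only [Finset.mem_erase, ne_eq, Fin.ext_iff] at hi
          simp [t, hi.1, hi.2.1]
      · simp [t, he]
  set h := el P t 1
  set b := el P tn (cyc e)
  set v := vec P (0 : Fin (e + 2 + 2))
  set u := vec P (1 : Fin (e + 2 + 2))
  set k2 : Fin (e + 2 + 2) := ⟨2, by omega⟩
  set k3 : Fin (e + 2 + 2) := ⟨3, by omega⟩
  have hsame : ∀ i : Fin (e + 2 + 2), 2 ≤ (i : ℕ) → sw (e + 2) i = i := fun i hi =>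
    Fin.ext (by rw [hsw]; split_ifs <;> omega)
  have hv : hh v v = 0 := by rw [herm_vec hF hP, if_neg (by simp [sw])]
  have huu : hh u u = 0 := by rw [herm_vec hF hP, if_neg (by simp [sw])]
  have hvu : hh v u = 1 := by rw [herm_vec hF hP, if_pos (by simp [sw])]
  have hwv : ∀ i : Fin (e + 2 + 2), 2 ≤ (i : ℕ) → hh (vec P i) v = 0 ∧ hh (vec P i) u = 0 ∧
      hh (vec P i) (vec P i) = 1 := fun i hi => by
    refine ⟨?_, ?_, ?_⟩
    · rw [herm_vec hF hP, hsame i hi, if_neg]; intro e'; rw [e'] at hi; simp at hi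
    · rw [herm_vec hF hP, hsame i hi, if_neg]; intro e'; rw [e'] at hi; simp at hi
    · rw [herm_vec hF hP, hsame i hi, if_pos rfl]
  have hw2 := hwv k2 le_rfl
  obtain ⟨s, hs⟩ := CfsgLib.Unitary.exists_root hF (μ := hh (vec P k2) (vec P k2))
    (CfsgLib.Unitary.herm_self_fixed hF _)
  obtain ⟨x, hxm, hx⟩ := exists_eich hF hv hw2.1 hs
  refine ⟨h * x, b, le_antisymm ((Subgroup.closure_le _).2 ?_) ?_⟩
  · rintro g (rfl | rfl)
    · exact mul_mem hhm hxm
    · exact hbm
  set S := Subgroup.closure {h * x, b}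
  have hS : S ≤ suGL (e + 2 + 2) F q := (Subgroup.closure_le _).2 (by
    rintro g (rfl | rfl)
    · exact mul_mem hhm hxm
    · exact hbm)
  have haS : h * x ∈ S := Subgroup.subset_closure (Or.inl rfl)
  have hbS : b ∈ S := Subgroup.subset_closure (Or.inr rfl)
  have hhv : (h : Matrix (Fin (e + 2 + 2)) (Fin (e + 2 + 2)) F) *ᵥ v = v := by
    rw [el_vec hF, Equiv.Perm.one_apply]
    simp [t, v]
  have hhk2 : (h : Matrix (Fin (e + 2 + 2)) (Fin (e + 2 + 2)) F) *ᵥ vec P k2 = vec P k2 := by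
    rw [el_vec hF, Equiv.Perm.one_apply]
    simp [t, k2]
  have hcomm : Commute h x := by
    refine eq_mul_of_mul_inv_eq ?_
    have hc := hx.conj hhm
    rw [hhv, hhk2] at hc
    exact hc.eq hx
  have hhN : h ^ (q + 1) = 1 := by
    rw [el_pow]
    refine el_ext (P := P) fun i => ?_
    rw [el_vec hF, Equiv.Perm.one_apply, Units.val_one, Matrix.one_mulVec, Pi.pow_apply]
    simp only [t]
    split_ifs <;> simp [hδ, inv_pow]
  have hxS : x ∈ S := by
    obtain ⟨p, hp⟩ := CharP.exists F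
    obtain ⟨m, hpp, hm⟩ := FiniteField.card F p
    have hpow : ∀ (w : Fin (e + 2 + 2) → F) (y : GL (Fin (e + 2 + 2)) F) (r : F), hh w v = 0 →
        IsEich q y v w r → ∀ k : ℕ, ∃ r' : F, IsEich q (y ^ k) v ((k : F) • w) r' ∧ (w = 0 → r' = (k : F) * r) := by
      intro w y r hw hy k
      induction k with
      | zero =>
        refine ⟨0, fun z => ?_, fun _ => by simp⟩
        rw [pow_zero, Units.val_one, Matrix.one_mulVec, Nat.cast_zero, zero_smul,
          CfsgLib.Geo.Unit.zero_right hf]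
        simp
      | succ k ih =>
        obtain ⟨r', hr', hr0⟩ := ih
        refine ⟨_, by
          rw [pow_succ, Nat.cast_succ, add_smul, one_smul]
          exact hr'.mul hF hv hw (by rw [hf.smul_left, hw, mul_zero]) hy, fun hw0 => ?_⟩
        rw [hr0 hw0, hw0, smul_zero, CfsgLib.Geo.Unit.zero_right hf, Nat.cast_succ]
        ring
    have hp0 : (p : F) = 0 := CharP.cast_eq_zero F p
    obtain ⟨r1, h1, -⟩ := hpow _ x s hw2.1 hx p
    rw [hp0, zero_smul] at h1
    obtain ⟨r2, h2, h2'⟩ := hpow 0 (x ^ p) r1 (LinLeft.zero_left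
      ⟨CfsgLib.Unitary.herm_add_left _, CfsgLib.Unitary.herm_smul_left _⟩ v) h1 p
    have hxp : x ^ (p * p) = 1 := by
      rw [pow_mul]
      refine gl_ext_mulVec fun z => ?_
      rw [h2, smul_zero, h2' rfl, hp0, zero_mul, Units.val_one, Matrix.one_mulVec,
        CfsgLib.Geo.Unit.zero_right hf]
      simp
    have hco : (q + 1).Coprime (orderOf x) := by
      refine Nat.Coprime.coprime_dvd_right (orderOf_dvd_of_pow_eq_one hxp) ?_
      have h1 : (q + 1).Coprime p := by
        refine (Nat.Prime.coprime_iff_not_dvd hpp).2 (fun hd => ?_) |>.symm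
        have hpq : p ∣ q := hpp.dvd_of_dvd_pow (n := 2) (by
          rw [← hF, Nat.card_eq_fintype_card, hm]; exact dvd_pow_self p m.pos.ne')
        have := Nat.dvd_sub hd hpq
        rw [Nat.add_sub_cancel_left] at this
        exact hpp.not_dvd_one this
      exact Nat.Coprime.mul_right h1 h1
    obtain ⟨j, hj⟩ := exists_pow_eq_self_of_coprime hco
    have := pow_mem haS (q + 1)
    rw [hcomm.mul_pow, hhN, one_mul] at this
    rw [← hj]
    exact pow_mem this j
  have hhS : h ∈ S := by simpa using mul_mem haS (inv_mem hxS)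
  have hbu : (b : Matrix (Fin (e + 2 + 2)) (Fin (e + 2 + 2)) F) *ᵥ u = (A : F) • v := by
    rw [el_vec hF, show cyc e 1 = 0 from Fin.ext (by simp [cyc_val])]
    simp [tn, v]
  have hbv : (b : Matrix (Fin (e + 2 + 2)) (Fin (e + 2 + 2)) F) *ᵥ v = (((A⁻¹) ^ q : Fˣ) : F) • u := by
    rw [el_vec hF, show cyc e 0 = 1 from Fin.ext (by simp [cyc_val])]
    simp [tn, u]
  have hb2 : (b : Matrix (Fin (e + 2 + 2)) (Fin (e + 2 + 2)) F) *ᵥ vec P k2 = (tn k3 : F) • vec P k3 := by
    rw [el_vec hF, show cyc e k2 = k3 from Fin.ext (by rw [cyc_val]; simp [k2, k3])]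
  have hvp2 : VP q S v (vec P k2) := ⟨hw2.1, x, hxS, s, hx⟩
  have hw3 := hwv k3 (by simp [k3])
  set β : F := (((A⁻¹) ^ q : Fˣ) : F) ^ q * (tn k3 : F)
  have hL1 : VP q S u (β • vec P k3) := vp_conj hF hS hbS hbv hb2 hvp2
    (by rw [hf.smul_left, hw3.2.1, mul_zero])
  obtain ⟨g, hgS, l, m, hgu, hgk, ho⟩ : ∃ g ∈ S, ∃ l m : F,
      (g : Matrix (Fin (e + 2 + 2)) (Fin (e + 2 + 2)) F) *ᵥ u = l • u ∧
      (g : Matrix (Fin (e + 2 + 2)) (Fin (e + 2 + 2)) F) *ᵥ vec P k3 = m • vec P k3 ∧
      (l ^ q * m ≠ 0 ∧ ∀ k, 0 < k → (l ^ q * m) ^ k = 1 → q - 1 < k) := by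
    by_cases he : 1 ≤ e
    · refine ⟨h, hhS, 1, δ, ?_, ?_, ?_, ?_⟩
      · rw [el_vec hF, Equiv.Perm.one_apply]; simp [t, u]
      · rw [el_vec hF, Equiv.Perm.one_apply]; simp [t, k3, he]
      · simp
      · simpa using hδo
    · obtain rfl : e = 0 := by omega
      have hq2 : q = 2 := hcase.resolve_left (by omega)
      refine ⟨b * b, mul_mem hbS hbS, (A : F) * (((A⁻¹) ^ q : Fˣ) : F), (tn k2 : F) * (tn k3 : F), ?_, ?_, ?_, ?_⟩
      · rw [mul_mulVec, hbu, Matrix.mulVec_smul, hbv, smul_smul]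
      · rw [mul_mulVec, el_vec hF, show cyc 0 k3 = k2 from Fin.ext (by rw [cyc_val]; simp [k2, k3]),
          Matrix.mulVec_smul, hb2, smul_smul]
      · exact mul_ne_zero (pow_ne_zero _ (mul_ne_zero A.ne_zero (Units.ne_zero _)))
          (mul_ne_zero (Units.ne_zero _) (Units.ne_zero _))
      · intro k hk h1
        by_contra hle
        have hk1 : k = 1 := by omega
        subst hq2 hk1
        rw [pow_one] at h1
        have hA : A = ω := if_neg he
        have h2F : (2 : F) = 0 := by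
          have h4 : Fintype.card F = 2 ^ 2 := by rw [← Nat.card_eq_fintype_card, hF]
          haveI : Fact (Nat.Prime 2) := ⟨Nat.prime_two⟩
          haveI : CharP F 2 := charP_of_card_eq_prime_pow (R := F) (p := 2) (f := 2) h4
          exact_mod_cast CharP.cast_eq_zero F 2
        have hsg1 : (sg' : F) = 1 := by
          rcases Int.units_eq_one_or (Equiv.Perm.sign (cyc 0)) with h | h
          · simp [sg', h]
          · simp [sg', h]; linear_combination -h2F
        have hw : (ω : F) ^ 4 = ω := by rw [← Units.val_pow_eq_pow_val, show 4 = 2 * 2 by rfl, hωu]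
        have h0 : (ω : F) ≠ 0 := ω.ne_zero
        simp [tn, k2, k3, hsg1, hA] at h1
        field_simp at h1
        have : orderOf ω ∣ 1 := orderOf_dvd_of_pow_eq_one (Units.ext (by
          rw [pow_one, Units.val_one]
          refine mul_left_cancel₀ h0 ?_
          rw [mul_one]
          grind))
        rw [hord] at this
        norm_num at this
  let L : AddSubgroup F :=
    { carrier := {c | VP q S u (c • vec P k3)}
      zero_mem' := by show VP q S u ((0 : F) • _); rw [zero_smul]; simpa using VP.centre hF (M := S) huu 0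
      add_mem' := fun {c c'} hc hc' => by show VP q S u ((c + c') • _); rw [add_smul]; exact hc.add hF huu hc'
      neg_mem' := fun {c} hc => by show VP q S u (-c • _); rw [neg_smul]; exact hc.neg hF huu }
  have hL : L = ⊤ := add_top_of_mul hF ho.1 ho.2 (show β ∈ L from hL1)
    (mul_ne_zero (pow_ne_zero _ (Units.ne_zero _)) (Units.ne_zero _)) fun c hc => by
    have := vp_conj hF hS hgS (x := c • vec P k3) (z := c • vec P k3) (m := m) hgu
      (by rw [Matrix.mulVec_smul, hgk, smul_comm]) hc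
      (by rw [hf.smul_left, hf.smul_left, hw3.2.1, mul_zero, mul_zero])
    show VP q S u _
    rwa [← smul_smul]
  have hline : ∀ c : F, VP q S u (c • vec P k3) := fun c => show c ∈ L by rw [hL]; trivial
  have hFu : Full q S u := full_of_line hF huu hw3.2.1 hw3.2.2 hline
  have hFv : Full q S v := by
    have := full_smul hF (full_conj hF hS hFu hbS) ((A : F)⁻¹)
    rwa [hbu, smul_smul, inv_mul_cancel₀ A.ne_zero, one_smul] at this
  obtain ⟨w, hwS, κ, hκ, -, hwu, hwfix⟩ := swap_mem hF hFv hFu hvu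
  have hflip : ∀ i : Fin (e + 2 + 2), 2 ≤ (i : ℕ) → (∀ c : F, VP q S u (c • vec P i)) →
      ∀ c : F, VP q S v (c • vec P i) := by
    intro i hi hu' c
    obtain ⟨hiv, hiu, -⟩ := hwv i hi
    have hcoef : (-κ⁻¹) ^ q ≠ 0 := pow_ne_zero _ (neg_ne_zero.2 (inv_ne_zero hκ))
    have := vp_conj hF hS hwS (m := (1 : F)) hwu
      (by rw [one_smul, Matrix.mulVec_smul, hwfix _ hiv hiu]) (hu' (c / (-κ⁻¹) ^ q))
      (by rw [hf.smul_left, hf.smul_left, hiv, mul_zero, mul_zero])
    rwa [mul_one, smul_smul, mul_div_cancel₀ _ hcoef] at this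
  have hstep : ∀ i : Fin (e + 2 + 2), 2 ≤ (i : ℕ) → (∀ c : F, VP q S v (c • vec P i)) →
      ∀ c : F, VP q S v (c • vec P (cyc e i)) := by
    intro i hi hg'
    have hi' : 2 ≤ ((cyc e i : Fin _) : ℕ) := by rw [cyc_val]; split_ifs <;> omega
    refine hflip _ hi' fun c => ?_
    have hcoef : (((A⁻¹) ^ q : Fˣ) : F) ^ q * (tn (cyc e i) : F) ≠ 0 :=
      mul_ne_zero (pow_ne_zero _ (Units.ne_zero _)) (Units.ne_zero _)
    set κ' := (((A⁻¹) ^ q : Fˣ) : F) ^ q * (tn (cyc e i) : F)
    have := vp_conj hF hS hbS (z := vec P (cyc e i)) (m := c / κ' * (tn (cyc e i) : F)) hbv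
      (by rw [Matrix.mulVec_smul, el_vec hF, smul_smul]) (hg' (c / κ'))
      (by rw [hf.smul_left, (hwv _ hi').2.1, mul_zero])
    rwa [show (((A⁻¹) ^ q : Fˣ) : F) ^ q * (c / κ' * (tn (cyc e i) : F)) = c / κ' * κ' by ring,
      div_mul_cancel₀ _ hcoef] at this
  have hgood3 := hflip k3 (by simp [k3]) hline
  have hup : ∀ k, ∀ hk : k + 3 < e + 2 + 2, ∀ c : F, VP q S v (c • vec P ⟨k + 3, hk⟩) := by
    intro k
    induction k with
    | zero => intro _; exact hgood3
    | succ k ih =>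
      intro hk
      have := hstep ⟨k + 3, by omega⟩ (by simp) (ih (by omega))
      rwa [show cyc e ⟨k + 3, by omega⟩ = ⟨k + 1 + 3, hk⟩ from Fin.ext (by
        rw [cyc_val]; simp only; split_ifs <;> omega)] at this
  refine suGL_le hF hP hS (by omega) (fun h => by omega) (fun i hi => ?_) hbS
    (Units.ne_zero ((A⁻¹) ^ q)) hbv
  rcases Nat.lt_or_ge (i : ℕ) 3 with h2 | h2
  · have := hstep ⟨e + 3, by omega⟩ (by simp) (hup e (by omega))
    rwa [show cyc e ⟨e + 3, by omega⟩ = i from Fin.ext (by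
      rw [cyc_val]; simp only; split_ifs <;> omega)] at this
  · obtain ⟨k, hk⟩ : ∃ k, (i : ℕ) = k + 3 := ⟨i - 3, by omega⟩
    have := hup k (by have := i.isLt; omega)
    rwa [show (⟨k + 3, by have := i.isLt; omega⟩ : Fin (e + 2 + 2)) = i from Fin.ext hk.symm] at this

/-- `PSU` is generated by two elements. -/
theorem psu_two_gen {n : ℕ} (hn : 3 ≤ n) (h32 : n = 3 → q ≠ 2) :
    ∃ a b : Cfsg.PSU n F q, Subgroup.closure ({a, b} : Set (Cfsg.PSU n F q)) = ⊤ := by
  have hq := CfsgLib.Forms.two_le_q hF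
  obtain ⟨a, b, hab⟩ : ∃ a b : GL (Fin n) F, Subgroup.closure {a, b} = suGL n F q := by
    rcases Nat.lt_or_ge n 4 with h | h
    · obtain rfl : n = 3 := by omega
      exact two_gen_small hF (e := 0) (by omega) (by have := h32 rfl; omega)
    · by_cases h4 : n = 4 ∧ q ≠ 2
      · obtain ⟨rfl, hq2⟩ := h4
        exact two_gen_small hF (e := 1) (by omega) (by omega)
      · obtain ⟨e, rfl⟩ : ∃ e, n = e + 2 + 2 := ⟨n - 4, by omega⟩
        exact two_gen_large hF (by omega)
  let φ : Cfsg.SU n F q →* GL (Fin n) F := Matrix.SpecialLinearGroup.toGL.comp (Cfsg.SU n F q).subtype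
  have hinj : Function.Injective φ := fun x y h => by
    refine Subtype.ext (Subtype.ext ?_)
    exact congrArg Units.val h
  have hrange : φ.range = suGL n F q := by
    refine le_antisymm ?_ fun g hg => ?_
    · rintro _ ⟨x, rfl⟩
      exact ⟨fun u v => x.2 u v, mem_specialLinear.2 x.1.2⟩
    · exact ⟨⟨⟨(g : Matrix (Fin n) (Fin n) F), mem_specialLinear.1 hg.2⟩, fun u v => herm_mulVec hg u v⟩,
        Units.ext rfl⟩
  obtain ⟨a', ha⟩ : a ∈ φ.range := by rw [hrange, ← hab]; exact Subgroup.subset_closure (Or.inl rfl)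
  obtain ⟨b', hb⟩ : b ∈ φ.range := by rw [hrange, ← hab]; exact Subgroup.subset_closure (Or.inr rfl)
  have htop : Subgroup.closure ({a', b'} : Set (Cfsg.SU n F q)) = ⊤ := by
    apply Subgroup.map_injective hinj
    rw [MonoidHom.map_closure, Set.image_pair, ha, hb, hab, ← MonoidHom.range_eq_map, hrange]
  refine ⟨QuotientGroup.mk' _ a', QuotientGroup.mk' _ b', ?_⟩
  rw [← Set.image_pair, ← MonoidHom.map_closure, htop, Subgroup.map_top_of_surjective]
  exact QuotientGroup.mk'_surjective _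

end CfsgLib.TwoGen.Unit
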