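import Cfsg.Agent.TwoGen.OrthCore
import Cfsg.Agent.Quad.POmega
import Cfsg.Agent.Quad.Concrete
import Mathlib.FieldTheory.Finite.Extension

/-!
# Projective orthogonal commutator groups are generated by two elements
-/

set_option autoImplicit false
set_option linter.unusedSectionVars false
set_option linter.style.haveILetI false

namespace CfsgLib.TwoGen

open Matrix QuadraticMap CfsgLib.Quad CfsgLib.Pronormal CfsgLib.Forms
open Fin.NatCast

variable {F : Type*} [Field F] [Finite F]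

/-- The parameters of the first generator. -/
def GoodLevi (r : ℕ) [NeZero r] (p : ℕ) (A : GL (Fin r) F) : Prop :=
  IsSquare (A : Matrix (Fin r) (Fin r) F).det ∧
  (∀ l, (A : Matrix (Fin r) (Fin r) F) l 0 = if l = 0 then 1 else 0) ∧
  (∃ N e : ℕ, A ^ N = 1 ∧ N + 1 = p ^ e ∧ 1 ≤ e) ∧
  ∀ y : F, y ≠ 0 → ∃ k : ℕ, ∀ l,
    ((A ^ k : GL (Fin r) F) : Matrix (Fin r) (Fin r) F) l 1 = if l = 1 then y * y else 0

theorem exists_diag_levi (r : ℕ) [NeZero r] (hr : 2 ≤ r) (p : ℕ) [Fact p.Prime] [CharP F p] :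
    ∃ A : GL (Fin r) F, GoodLevi r p A := by
  haveI := Fintype.ofFinite F
  obtain ⟨ξ, hξ⟩ := IsCyclic.exists_monoid_generator (α := Fˣ)
  obtain ⟨f, -, hf⟩ := FiniteField.card F p
  let t : Fin r → Fˣ := fun i => if i = 1 then ξ * ξ else 1
  have h01 : (0 : Fin r) ≠ 1 := fun e => by
    have := congrArg Fin.val e
    rw [Fin.val_zero, Fin.val_one', Nat.mod_eq_of_lt (by omega)] at this
    omega
  refine ⟨diagGL t, ?_, fun l => ?_, ⟨Nat.card F - 1, f, ?_, ?_, f.pos⟩, fun y hy => ?_⟩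
  · rw [diagGL_val, Matrix.det_diagonal, Finset.prod_eq_single (1 : Fin r)]
    · simp [t]
    · intro i _ hi; simp [t, hi]
    · simp
  · rw [diagGL_val, Matrix.diagonal_apply]
    by_cases h : l = 0
    · subst h; simp [t, h01]
    · simp [h]
  · rw [← map_pow, ← map_one diagGL]
    congr 1
    funext i
    rw [Pi.pow_apply, Pi.one_apply, ← Nat.card_units, pow_card_eq_one']
  · rw [Nat.card_eq_fintype_card, hf]
    have := Nat.one_le_pow (f : ℕ) p (Fact.out : p.Prime).pos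
    omega
  · obtain ⟨k, hk⟩ := hξ (Units.mk0 y hy)
    refine ⟨k, fun l => ?_⟩
    rw [← map_pow, diagGL_val, Matrix.diagonal_apply]
    by_cases h : l = 1
    · subst h
      have hk' : ((ξ : F)) ^ k = y := by
        simpa using congrArg Units.val hk
      simp [t, mul_pow, hk']
    · simp [h]

theorem exists_quadratic_block (p : ℕ) [Fact p.Prime] [CharP F p] : ∃ M : GL (Fin 2) F,
    IsSquare (M : Matrix (Fin 2) (Fin 2) F).det ∧ (∃ N e : ℕ, M ^ N = 1 ∧ N + 1 = p ^ e ∧ 1 ≤ e) ∧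
      (∀ l, (M : Matrix (Fin 2) (Fin 2) F) l 0 = if l = 1 then 1 else 0) ∧
      ∀ y : F, y ≠ 0 → ∃ k : ℕ, ∀ l,
        ((M ^ k : GL (Fin 2) F) : Matrix (Fin 2) (Fin 2) F) l 0 = if l = 0 then y * y else 0 := by
  haveI := Fintype.ofFinite F
  let K := FiniteField.Extension F p 2
  haveI := Fintype.ofFinite K
  have hK : Nat.card K = Nat.card F ^ 2 := FiniteField.natCard_extension F p 2
  obtain ⟨f, -, hf⟩ := FiniteField.card F p
  have hq : 2 ≤ Nat.card F := Finite.one_lt_card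
  obtain ⟨ω, hω⟩ := IsCyclic.exists_monoid_generator (α := Kˣ)
  set θ : K := (ω : K) * ω with hθ
  have hθ0 : θ ≠ 0 := mul_ne_zero ω.ne_zero ω.ne_zero
  have hnF : ∀ c : F, algebraMap F K c ≠ θ := by
    intro c hc
    have hc0 : c ≠ 0 := fun e => hθ0 (by rw [← hc, e, map_zero])
    have h1 : (ω * ω) ^ (Nat.card F - 1) = 1 := Units.ext (by
      rw [Units.val_pow_eq_pow_val, Units.val_mul, ← hθ, ← hc, ← map_pow, Nat.card_eq_fintype_card,
        FiniteField.pow_card_sub_one_eq_one c hc0, map_one, Units.val_one])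
    rw [← pow_two, ← pow_mul] at h1
    have h2 := orderOf_dvd_of_pow_eq_one h1
    rw [orderOf_eq_card_of_forall_mem_zpowers (fun x => Submonoid.powers_le_zpowers _ (hω x) : ∀ x, x ∈ Subgroup.zpowers ω),
      Nat.card_units, hK] at h2
    have h3 := Nat.le_of_dvd (by omega) h2
    have h4 : Nat.card F * 2 ≤ Nat.card F ^ 2 := by rw [pow_two]; exact Nat.mul_le_mul_left _ hq
    omega
  have hli : LinearIndependent F ![(1 : K), θ] := by
    refine LinearIndependent.pair_iff.2 fun s t hst => ?_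
    by_cases ht : t = 0
    · subst ht; simpa using hst
    · exfalso
      refine hnF (-s / t) ?_
      rw [Algebra.smul_def, Algebra.smul_def, mul_one] at hst
      rw [map_div₀, map_neg, div_eq_iff (by simpa using ht)]
      linear_combination -hst
  let β := basisOfLinearIndependentOfCardEqFinrank hli
    (by rw [Fintype.card_fin, FiniteField.finrank_extension F p 2])
  have hβ : ∀ i, β i = ![(1 : K), θ] i := fun i => by
    simp [β]
  have hcol : ∀ (x : K) l, Algebra.leftMulMatrix β x l 0 = β.repr x l := fun x l => by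
    rw [Algebra.leftMulMatrix_eq_repr_mul, hβ]
    simp
  let Φ : Kˣ →* GL (Fin 2) F := Units.map (Algebra.leftMulMatrix β).toMonoidHom
  refine ⟨Φ (ω * ω), ?_, ⟨Nat.card K - 1, 2 * f, ?_, ?_, by have := f.pos; omega⟩, fun l => ?_, fun y hy => ?_⟩
  · show IsSquare (Algebra.leftMulMatrix β ((ω : K) * ω)).det
    rw [← Algebra.norm_eq_matrix_det, map_mul]
    exact ⟨_, rfl⟩
  · rw [← map_pow, ← Nat.card_units, pow_card_eq_one', map_one]
  · rw [hK, Nat.card_eq_fintype_card, hf, ← pow_mul, mul_comm]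
    have := Nat.one_le_pow (2 * (f : ℕ)) p (Fact.out : p.Prime).pos
    omega
  · show Algebra.leftMulMatrix β θ l 0 = _
    rw [hcol, show θ = β 1 by rw [hβ]; rfl, Module.Basis.repr_self, Finsupp.single_apply]
    simp only [eq_comm]
  · obtain ⟨z, hz⟩ := FiniteField.unitsMap_norm_surjective F K (Units.mk0 y hy)
    obtain ⟨n, hn⟩ := hω z
    refine ⟨(Nat.card F + 1) * n, fun l => ?_⟩
    rw [← map_pow]
    show Algebra.leftMulMatrix β (((ω * ω) ^ ((Nat.card F + 1) * n) : Kˣ) : K) l 0 = _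
    have hE : (Nat.card K - 1) / (Nat.card F - 1) = Nat.card F + 1 := by
      rw [hK]
      refine Nat.div_eq_of_eq_mul_left (by omega) ?_
      have := Nat.sq_sub_sq (Nat.card F) 1
      simpa using this
    have e : (((ω * ω) ^ ((Nat.card F + 1) * n) : Kˣ) : K) = algebraMap F K (y * y) := by
      rw [map_mul, show y = Algebra.norm F (z : K) from (congrArg Units.val hz).symm,
        FiniteField.algebraMap_norm_eq_pow, hE, ← hn]
      simp only [Units.val_pow_eq_pow_val, Units.val_mul, mul_pow, ← pow_mul]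
      rw [mul_comm n (Nat.card F + 1)]
    rw [hcol, e, Algebra.algebraMap_eq_smul_one, show (1 : K) = β 0 by rw [hβ]; rfl, map_smul,
      Module.Basis.repr_self, Finsupp.smul_apply, Finsupp.single_apply]
    by_cases hl : l = 0
    · subst hl; simp
    · rw [if_neg (Ne.symm hl), if_neg hl, smul_zero]

theorem exists_block_levi (k : ℕ) (p : ℕ) [Fact p.Prime] [CharP F p] :
    ∃ A : GL (Fin (k + 3)) F, GoodLevi (k + 3) p A ∧
      ∀ l, (A : Matrix (Fin (k + 3)) (Fin (k + 3)) F) l 1 = if l = 2 then 1 else 0 := by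
  obtain ⟨M, hdet, ⟨N, e, hN, hNe, he⟩, hcol, hsq⟩ := exists_quadratic_block (F := F) p
  let g : Fin 2 ⊕ Fin (k + 1) → Fin (k + 3) :=
    Sum.elim (fun i => ⟨i + 1, by omega⟩) (fun j => if (j : ℕ) = 0 then 0 else ⟨j + 2, by omega⟩)
  have hg : Function.Bijective g := by
    refine (Fintype.bijective_iff_injective_and_card g).2 ⟨?_, by simp; omega⟩
    rintro (i | i) (j | j) h <;>
    · simp only [g, Sum.elim_inl, Sum.elim_inr] at h
      have h' := congrArg Fin.val h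
      first
        | (simp only at h'; exact congrArg Sum.inl (Fin.ext (by omega)))
        | (split_ifs at h' <;> simp only [Fin.val_zero] at h' <;>
            first | exact congrArg Sum.inr (Fin.ext (by omega)) | omega)
  let ε := Equiv.ofBijective g hg
  let ext : Matrix (Fin 2) (Fin 2) F →* Matrix (Fin (k + 3)) (Fin (k + 3)) F :=
    { toFun := fun X => Matrix.reindex ε ε (Matrix.fromBlocks X 0 0 1)
      map_one' := by simp
      map_mul' := fun X Y => by
        simp only [Matrix.reindex_apply, Matrix.submatrix_mul_equiv, Matrix.fromBlocks_multiply]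
        simp }
  have e0 : (0 : Fin (k + 3)) = ε (Sum.inr 0) := by simp [ε, g]
  have e1 : (1 : Fin (k + 3)) = ε (Sum.inl 0) := Fin.ext (by simp [ε, g])
  have e2 : (2 : Fin (k + 3)) = ε (Sum.inl 1) := Fin.ext (by simp [ε, g, Nat.mod_eq_of_lt (show 2 < k + 3 by omega)])
  have hval : ∀ (X : GL (Fin 2) F), ((Units.map ext X : GL (Fin (k + 3)) F) :
      Matrix (Fin (k + 3)) (Fin (k + 3)) F) = Matrix.reindex ε ε (Matrix.fromBlocks (X : Matrix (Fin 2) (Fin 2) F) 0 0 1) :=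
    fun X => rfl
  refine ⟨Units.map ext M, ⟨?_, fun l => ?_, ⟨N, e, by rw [← map_pow, hN, map_one], hNe, he⟩, fun y hy => ?_⟩,
    fun l => ?_⟩
  · rw [hval, Matrix.det_reindex_self, Matrix.det_fromBlocks_zero₂₁, Matrix.det_one, mul_one]
    exact hdet
  · obtain ⟨l, rfl⟩ := ε.surjective l
    rw [hval, Matrix.reindex_apply, Matrix.submatrix_apply, e0, Equiv.symm_apply_apply, Equiv.symm_apply_apply]
    rcases l with l | l <;> simp [Matrix.one_apply]
  · obtain ⟨n, hn⟩ := hsq y hy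
    refine ⟨n, fun l => ?_⟩
    obtain ⟨l, rfl⟩ := ε.surjective l
    rw [← map_pow, hval, Matrix.reindex_apply, Matrix.submatrix_apply, e1, Equiv.symm_apply_apply,
      Equiv.symm_apply_apply]
    rcases l with l | l
    · rw [Matrix.fromBlocks_apply₁₁, hn]; simp
    · simp
  · obtain ⟨l, rfl⟩ := ε.surjective l
    rw [hval, Matrix.reindex_apply, Matrix.submatrix_apply, e1, e2, Equiv.symm_apply_apply,
      Equiv.symm_apply_apply]
    rcases l with l | l
    · rw [Matrix.fromBlocks_apply₁₁, hcol]; simp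
    · simp

/-- Transport of two generators to a projective commutator group. -/
theorem two_gen_pomega {κ ι : Type} [Fintype ι] [DecidableEq ι] [Fintype κ] [DecidableEq κ]
    (Q : QuadraticForm F (ι → F)) (Q' : QuadraticForm F (κ → F)) (σ : ι ≃ κ)
    (hσ : ∀ v : κ → F, Q (v ∘ σ) = Q' v) {x y : oGroup Q'}
    (h : Subgroup.closure {x, y} = commutator (oGroup Q')) :
    ∃ a b : Cfsg.POmega F ⇑Q, Subgroup.closure ({a, b} : Set (Cfsg.POmega F ⇑Q)) = ⊤ := by
  let φ := oGroupCongr (Q := Q') (Q' := Q) (LinearEquiv.funCongrLeft F F σ) hσ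
  have hmap : Subgroup.closure {φ x, φ y} = commutator (oGroup Q) := by
    rw [← commutator_map_equiv φ, ← h, MonoidHom.map_closure, Set.image_pair]
    rfl
  have hx : φ x ∈ commutator (oGroup Q) := hmap ▸ Subgroup.subset_closure (Or.inl rfl)
  have hy : φ y ∈ commutator (oGroup Q) := hmap ▸ Subgroup.subset_closure (Or.inr rfl)
  have htop : Subgroup.closure ({⟨φ x, hx⟩, ⟨φ y, hy⟩} : Set (commutator (oGroup Q))) = ⊤ := by
    apply Subgroup.map_injective (commutator (oGroup Q)).subtype_injective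
    rw [MonoidHom.map_closure, Set.image_pair, ← MonoidHom.range_eq_map, Subgroup.range_subtype]
    exact hmap
  let ψ := (pOmegaEquiv Q).symm.toMonoidHom.comp
    (QuotientGroup.mk' (Subgroup.center ↥(commutator (oGroup Q))))
  refine ⟨ψ ⟨φ x, hx⟩, ψ ⟨φ y, hy⟩, ?_⟩
  rw [← Set.image_pair, ← MonoidHom.map_closure, htop, Subgroup.map_top_of_surjective]
  exact (pOmegaEquiv Q).symm.surjective.comp (QuotientGroup.mk'_surjective _)

theorem two_gen_pomega_odd {m : ℕ} (hm : 2 ≤ m) (h2 : (2 : F) ≠ 0) :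
    ∃ a b : Cfsg.POmega F ⇑(oddQ (F := F) m),
      Subgroup.closure ({a, b} : Set (Cfsg.POmega F ⇑(oddQ (F := F) m))) = ⊤ := by
  obtain ⟨p, hp⟩ := CharP.exists F
  haveI : Fact p.Prime := ⟨CharP.char_is_prime F p⟩
  haveI : NeZero m := ⟨by omega⟩
  obtain ⟨A, hdet, hA0, ⟨N, e, hN, hNe, he⟩, hsq⟩ := exists_diag_levi (F := F) m hm p
  let u : Unit ⊕ (Fin 0 ⊕ Fin 0) → F := fun _ => 1
  have hall : ∀ i : Unit ⊕ (Fin 0 ⊕ Fin 0), i = Sum.inl () := by
    rintro (_ | i | i)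
    · rfl
    · exact i.elim0
    · exact i.elim0
  have hQ : ∀ v, oddQ (F := F) 0 v = v (Sum.inl ()) ^ 2 := fun v => by
    rw [oddQ_coe]; simp [Cfsg.quadFormOdd]
  have hu : oddQ (F := F) 0 u ≠ 0 := by rw [hQ]; simp [u]
  have hcard : Nat.card F ≠ 2 := fun h => h2 (by
    haveI := Fintype.ofFinite F
    rw [Nat.card_eq_fintype_card] at h
    haveI : CharP F 2 := charP_of_card_eq_prime_pow (R := F) (p := 2) (f := 1) (by rw [h]; norm_num)
    exact_mod_cast CharP.cast_eq_zero F 2)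
  obtain ⟨x, y, hxy⟩ := exists_two_gen (r := m) (Q₀ := oddQ 0) hm (oddQ_nondeg h2 0)
    (by simp; omega) (Or.inl hcard) ⟨u, u, by rw [polar_self, hQ]; simp [u, h2]⟩ hu A hdet hA0 (w₀ := u)
    (Fact.out : p.Prime) hN hNe he hsq (Or.inl (by
      rw [refl_self hu]
      refine eq_top_iff.2 fun v _ => Submodule.mem_span_singleton.2 ⟨-v (Sum.inl ()), ?_⟩
      funext i
      rw [hall i]
      simp [u]))
  let σ : Unit ⊕ (Fin m ⊕ Fin m) ≃ (Fin m ⊕ Fin m) ⊕ (Unit ⊕ (Fin 0 ⊕ Fin 0)) :=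
    (Equiv.sumComm _ _).trans ((Equiv.refl _).sumCongr (Equiv.sumEmpty Unit (Fin 0 ⊕ Fin 0)).symm)
  refine two_gen_pomega _ _ σ (fun v => ?_) hxy
  show oddQ m (v ∘ σ) = plusQ m (v ∘ Sum.inl) + oddQ 0 (v ∘ Sum.inr)
  rw [hQ, oddQ_coe, plusQ_coe]
  simp [Cfsg.quadFormOdd, Cfsg.quadFormPlus, σ]
  ring

theorem two_gen_pomega_plus {m : ℕ} (hm : 4 ≤ m) :
    ∃ a b : Cfsg.POmega F ⇑(plusQ (F := F) m),
      Subgroup.closure ({a, b} : Set (Cfsg.POmega F ⇑(plusQ (F := F) m))) = ⊤ := by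
  obtain ⟨p, hp⟩ := CharP.exists F
  haveI : Fact p.Prime := ⟨CharP.char_is_prime F p⟩
  obtain ⟨k, rfl⟩ : ∃ k, m = k + 3 + 1 := ⟨m - 4, by omega⟩
  obtain ⟨A, ⟨hdet, hA0, ⟨N, e, hN, hNe, he⟩, hsq⟩, hA1⟩ := exists_block_levi (F := F) k p
  let u : Fin 1 ⊕ Fin 1 → F := fun _ => 1
  let w : Fin 1 ⊕ Fin 1 → F := Pi.single (Sum.inl 0) 1
  have hu : plusQ (F := F) 1 u = 1 := by rw [plusQ_coe]; simp [Cfsg.quadFormPlus, u]
  have hwu : polar (plusQ (F := F) 1) w u = 1 := by rw [polar_plusQ]; simp [w, u]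
  obtain ⟨x, y, hxy⟩ := exists_two_gen (r := k + 3) (Q₀ := plusQ 1) (by omega) (plusQ_nondeg 1)
    (by simp; omega) (Or.inr (by omega)) ⟨w, u, by rw [hwu]; exact one_ne_zero⟩
    (show plusQ (F := F) 1 u ≠ 0 by rw [hu]; exact one_ne_zero) A hdet hA0 (w₀ := w)
    (Fact.out : p.Prime) hN hNe he hsq (Or.inr ⟨by omega, hA1, by
      refine eq_top_iff.2 fun v _ => Submodule.mem_span_pair.2 ⟨v (Sum.inl 0), -v (Sum.inr 0), ?_⟩
      rw [refl_apply, hu, hwu]
      funext i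
      rcases i with i | i <;> fin_cases i <;> simp [w, u]⟩)
  let σ : Fin (k + 3 + 1) ⊕ Fin (k + 3 + 1) ≃ (Fin (k + 3) ⊕ Fin (k + 3)) ⊕ (Fin 1 ⊕ Fin 1) :=
    (finSumFinEquiv.symm.sumCongr finSumFinEquiv.symm).trans (Equiv.sumSumSumComm _ _ _ _)
  refine two_gen_pomega _ _ σ (fun v => ?_) hxy
  show plusQ (k + 3 + 1) (v ∘ σ) = plusQ (k + 3) (v ∘ Sum.inl) + plusQ 1 (v ∘ Sum.inr)
  simp only [plusQ_coe, Cfsg.quadFormPlus, Fin.sum_univ_one, Function.comp_apply]
  rw [Fin.sum_univ_castSucc]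
  have e1 : ∀ i : Fin (k + 3), finSumFinEquiv.symm i.castSucc = (Sum.inl i : Fin (k + 3) ⊕ Fin 1) := fun i =>
    finSumFinEquiv_symm_apply_castAdd i
  have e2 : finSumFinEquiv.symm (Fin.last (k + 3)) = (Sum.inr 0 : Fin (k + 3) ⊕ Fin 1) := by
    rw [Equiv.symm_apply_eq]; ext; simp
  simp [σ, Equiv.sumSumSumComm, e1, e2]

theorem two_gen_pomega_minus {k : ℕ} (a b : F)
    (hab : ∀ z₁ z₂ : F, z₁ ^ 2 + a * z₁ * z₂ + b * z₂ ^ 2 = 0 → z₁ = 0 ∧ z₂ = 0) :
    ∃ g h : Cfsg.POmega F ⇑(minusQ (k + 3) a b),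
      Subgroup.closure ({g, h} : Set (Cfsg.POmega F ⇑(minusQ (k + 3) a b))) = ⊤ := by
  obtain ⟨p, hp⟩ := CharP.exists F
  haveI : Fact p.Prime := ⟨CharP.char_is_prime F p⟩
  obtain ⟨A, ⟨hdet, hA0, ⟨N, e, hN, hNe, he⟩, hsq⟩, hA1⟩ := exists_block_levi (F := F) k p
  have hb : b ≠ 0 := fun h => one_ne_zero (hab 0 1 (by rw [h]; ring)).2
  let u : (Fin 0 ⊕ Fin 0) ⊕ Fin 2 → F := Sum.elim 0 ![0, 1]
  obtain ⟨c, hc⟩ : ∃ c : F, a + 2 * b * c ≠ 0 := by
    by_cases h : a = 0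
    · refine ⟨1, ?_⟩
      have hd := disc_ne_zero hab
      rw [h] at hd ⊢
      intro h'
      exact hd (by linear_combination 2 * h')
    · exact ⟨0, by simpa using h⟩
  let w : (Fin 0 ⊕ Fin 0) ⊕ Fin 2 → F := Sum.elim 0 ![1, c]
  have hu : minusQ 0 a b u = b := by rw [minusQ_coe]; simp [Cfsg.quadFormMinus, u]
  have hwu : polar (minusQ 0 a b) w u = a + 2 * b * c := by rw [polar_minusQ, polar_plusQ]; simp [w, u]
  obtain ⟨x, y, hxy⟩ := exists_two_gen (r := k + 3) (Q₀ := minusQ 0 a b) (by omega) (minusQ_nondeg hab 0)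
    (by simp; omega) (Or.inr (by omega)) ⟨w, u, by rw [hwu]; exact hc⟩
    (show minusQ 0 a b u ≠ 0 by rw [hu]; exact hb) A hdet hA0 (w₀ := w)
    (Fact.out : p.Prime) hN hNe he hsq (Or.inr ⟨by omega, hA1, by
      rw [refl_apply, hu, hwu]
      set d := -b⁻¹ * (a + 2 * b * c)
      have hd : d ≠ 0 := mul_ne_zero (neg_ne_zero.2 (inv_ne_zero hb)) hc
      refine eq_top_iff.2 fun v _ => Submodule.mem_span_pair.2
        ⟨v (Sum.inr 0) - (v (Sum.inr 1) - c * v (Sum.inr 0)) / d,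
          (v (Sum.inr 1) - c * v (Sum.inr 0)) / d, ?_⟩
      funext i
      rcases i with (i | i) | i
      · exact i.elim0
      · exact i.elim0
      · fin_cases i <;> simp [w, u] <;> field_simp <;> ring⟩)
  let σ : (Fin (k + 3) ⊕ Fin (k + 3)) ⊕ Fin 2 ≃
      (Fin (k + 3) ⊕ Fin (k + 3)) ⊕ ((Fin 0 ⊕ Fin 0) ⊕ Fin 2) :=
    (Equiv.refl _).sumCongr (Equiv.emptySum (Fin 0 ⊕ Fin 0) (Fin 2)).symm
  refine two_gen_pomega _ _ σ (fun v => ?_) hxy
  show minusQ (k + 3) a b (v ∘ σ) = plusQ (k + 3) (v ∘ Sum.inl) + minusQ 0 a b (v ∘ Sum.inr)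
  simp [minusQ_coe, plusQ_coe, Cfsg.quadFormMinus, Cfsg.quadFormPlus, σ]

end CfsgLib.TwoGen
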