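import Cfsg.Agent.Geo.OrthSiegel
import Cfsg.Agent.Quad.PlusLevi
import Cfsg.Agent.Quad.OmegaSum
import Cfsg.Agent.Pronormal.EvenUnitary

/-!
# Two generators for the commutator subgroup of an orthogonal group of Witt index at least two
-/

set_option autoImplicit false
set_option linter.unusedSectionVars false
set_option linter.style.haveILetI false

namespace CfsgLib.TwoGen

open Matrix QuadraticMap CfsgLib.Quad CfsgLib.Pronormal CfsgLib.Forms
open Fin.NatCast

variable {F : Type*} [Field F] {r : ℕ} {α : Type} [Fintype α] [DecidableEq α]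

/-- A hyperbolic space plus a core. -/
noncomputable def frameQ (r : ℕ) (Q₀ : QuadraticForm F (α → F)) :
    QuadraticForm F ((Fin r ⊕ Fin r) ⊕ α → F) :=
  sumQ (plusQ r) Q₀

/-- The basis vectors of the hyperbolic part. -/
def ev (k : Fin r ⊕ Fin r) : (Fin r ⊕ Fin r) ⊕ α → F := Sum.elim (Pi.single k 1) 0

/-- The core vectors. -/
def wv (r : ℕ) (w : α → F) : (Fin r ⊕ Fin r) ⊕ α → F := Sum.elim 0 w

variable (Q₀ : QuadraticForm F (α → F))

theorem polar_ev (k : Fin r ⊕ Fin r) (x : (Fin r ⊕ Fin r) ⊕ α → F) :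
    polar (frameQ r Q₀) (ev k) x = x (Sum.inl k.swap) := by
  rw [frameQ, polar_sumQ, ev, Sum.elim_comp_inl, Sum.elim_comp_inr, polar_zero_left, add_zero, polar_plusQ]
  rcases k with i | i <;> simp [Pi.single_apply, Finset.sum_add_distrib]

theorem polar_ev_right (k : Fin r ⊕ Fin r) (x : (Fin r ⊕ Fin r) ⊕ α → F) :
    polar (frameQ r Q₀) x (ev k) = x (Sum.inl k.swap) := by rw [polar_comm, polar_ev]

theorem frameQ_ev (k : Fin r ⊕ Fin r) : frameQ r Q₀ (ev k) = 0 := by
  show plusQ r ((ev k : (Fin r ⊕ Fin r) ⊕ α → F) ∘ Sum.inl) +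
    Q₀ ((ev k : (Fin r ⊕ Fin r) ⊕ α → F) ∘ Sum.inr) = 0
  rw [ev, Sum.elim_comp_inl, Sum.elim_comp_inr, QuadraticMap.map_zero, add_zero, plusQ_coe]
  rcases k with i | i <;> simp [Cfsg.quadFormPlus, Pi.single_apply]

theorem frameQ_wv (w : α → F) : frameQ r Q₀ (wv r w) = Q₀ w := by
  show plusQ r (wv r w ∘ Sum.inl) + Q₀ (wv r w ∘ Sum.inr) = _
  rw [wv, Sum.elim_comp_inl, Sum.elim_comp_inr, QuadraticMap.map_zero, zero_add]

theorem polar_wv (v w : α → F) : polar (frameQ r Q₀) (wv r v) (wv r w) = polar Q₀ v w := by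
  rw [frameQ, polar_sumQ]
  simp [wv, polar_zero_left]

theorem polar_ev_wv (k : Fin r ⊕ Fin r) (w : α → F) : polar (frameQ r Q₀) (ev k) (wv r w) = 0 := by
  rw [polar_ev]; simp [wv]

theorem wv_add (v w : α → F) : wv r (v + w) = wv r v + wv r w := by
  funext k; rcases k with k | k <;> simp [wv]

theorem wv_smul (c : F) (w : α → F) : wv r (c • w) = c • wv r w := by
  funext k; rcases k with k | k <;> simp [wv]

theorem wv_zero : wv r (0 : α → F) = 0 := by
  funext k; rcases k with k | k <;> simp [wv]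

theorem wv_neg (w : α → F) : wv r (-w) = -wv r w := by
  funext k; rcases k with k | k <;> simp [wv]

theorem wv_nsmul (n : ℕ) (w : α → F) : wv r (n • w) = n • wv r w := by
  funext k; rcases k with k | k <;> simp [wv]

theorem frameQ_nondeg (h₀ : (polarBilin Q₀).Nondegenerate) : (polarBilin (frameQ r Q₀)).Nondegenerate :=
  sumQ_nondeg (plusQ_nondeg r) h₀

variable {Q₀}

/-- The commutator of two root elements. -/
theorem comm_mem {V : Type*} [AddCommGroup V] [Module F V] {Q : QuadraticForm F V}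
    {S : Subgroup (oGroup Q)} {e f a b : V} (he : Q e = 0) (hf : Q f = 0) (hef : polar Q e f = 0)
    (hea : polar Q e a = 0) (hfa : polar Q f a = 0) (heb : polar Q e b = 0) (hfb : polar Q f b = 0)
    (h1 : siegel Q e a ∈ S) (h2 : siegel Q f b ∈ S) : siegel Q f (-polar Q a b • e) ∈ S := by
  have h3 := mul_mem (mul_mem h1 h2) (inv_mem h1)
  rw [siegel_conj _ hf hfb, siegel_apply he hea f, siegel_apply he hea b, polar_comm (⇑Q) f e, hef, hfa,
    polar_comm (⇑Q) b e, heb, polar_comm (⇑Q) b a] at h3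
  have e1 : f + (0 : F) • a - (0 + Q a * 0) • e = f := by simp
  have e2 : b + (0 : F) • a - (polar Q a b + Q a * 0) • e = b + (-polar Q a b) • e := by
    rw [zero_smul, add_zero, mul_zero, add_zero, neg_smul, sub_eq_add_neg]
  rw [e1, e2, ← siegel_mul hf hfb (by rw [polar_smul_right, polar_comm (⇑Q) f e, hef, smul_zero])] at h3
  simpa using mul_mem (inv_mem h2) h3

variable [Finite F]

/-- Full core root groups at all positions give everything. -/
theorem le_of_core_roots (h₀ : (polarBilin Q₀).Nondegenerate) (hn : 5 ≤ 2 * r + Fintype.card α)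
    (k₀ : Fin r ⊕ Fin r) (hab : ∃ a b : α → F, polar Q₀ a b ≠ 0)
    {S : Subgroup (oGroup (frameQ r Q₀))}
    (hW : ∀ k w, siegel (frameQ r Q₀) (ev k) (wv r w) ∈ S) :
    commutator (oGroup (frameQ r Q₀)) ≤ S := by
  obtain ⟨a, b, hab⟩ := hab
  have hfull : ∀ k, CfsgLib.Geo.OS.Full S (ev k) := by
    intro k v hv
    let M : AddSubgroup ((Fin r ⊕ Fin r) ⊕ α → F) :=
      { carrier := {v | polar (frameQ r Q₀) (ev k) v = 0 ∧ siegel (frameQ r Q₀) (ev k) v ∈ S}
        zero_mem' := ⟨polar_zero_right _ _, by rw [siegel_zero (frameQ_ev Q₀ k)]; exact one_mem S⟩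
        add_mem' := fun {x y} hx hy => ⟨by rw [polar_add_right, hx.1, hy.1, add_zero],
          by rw [← siegel_mul (frameQ_ev Q₀ k) hx.1 hy.1]; exact mul_mem hx.2 hy.2⟩
        neg_mem' := fun {x} hx => ⟨by rw [polar_neg_right, hx.1, neg_zero],
          by rw [← siegel_inv (frameQ_ev Q₀ k) hx.1]; exact inv_mem hx.2⟩ }
    have hev : ∀ (j : Fin r ⊕ Fin r) (c : F), j ≠ k.swap → c • ev j ∈ M := by
      intro j c hj
      have hjk : polar (frameQ r Q₀) (ev k) (ev j) = 0 := by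
        rw [polar_ev]; simp [ev, Pi.single_eq_of_ne (Ne.symm hj)]
      refine ⟨by rw [polar_smul_right, hjk, smul_zero], ?_⟩
      have := comm_mem (S := S) (frameQ_ev Q₀ j) (frameQ_ev Q₀ k) (by rw [polar_comm, hjk])
        (polar_ev_wv Q₀ j a) (polar_ev_wv Q₀ k a) (polar_ev_wv Q₀ j ((-(c / polar Q₀ a b)) • b))
        (polar_ev_wv Q₀ k _) (hW j a) (hW k _)
      rwa [polar_wv, polar_smul_right, smul_eq_mul, neg_mul, neg_neg, div_mul_cancel₀ _ hab] at this
    have hdec : v = (∑ j, v (Sum.inl j) • ev j) + wv r (v ∘ Sum.inr) := by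
      funext x
      rcases x with (x | x) | x <;> simp [ev, wv, Finset.sum_apply, Pi.single_apply]
    suffices v ∈ M from this.2
    rw [hdec]
    refine add_mem (sum_mem fun j _ => ?_) ⟨polar_ev_wv Q₀ k _, hW k _⟩
    by_cases hj : j = k.swap
    · rw [hj, show v (Sum.inl k.swap) = 0 by rwa [polar_ev] at hv, zero_smul]
      exact zero_mem M
    · exact hev j _ hj
  refine CfsgLib.Geo.OS.commutator_le_of_two (frameQ_nondeg Q₀ h₀) ?_ (frameQ_ev Q₀ k₀)
    (frameQ_ev Q₀ k₀.swap) ?_ (hfull k₀) (hfull _)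
  · simpa [Module.finrank_fintype_fun_eq_card, Fintype.card_sum, two_mul] using hn
  · rw [polar_ev]; simp [ev]

theorem eq_top_of_squares {M : AddSubgroup F} (h : ∀ y : F, y ≠ 0 → y * y ∈ M) : M = ⊤ := by
  refine eq_top_iff.2 fun c _ => ?_
  have hsq : ∀ y : F, y * y ∈ M := fun y => by
    by_cases hy : y = 0
    · subst hy; simp
    · exact h y hy
  rcases two_ne_zero_or_charP (F := F) with h2 | h2
  · have e : c = (c + 1) / 2 * ((c + 1) / 2) - (c - 1) / 2 * ((c - 1) / 2) := by field_simp; ring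
    rw [e]
    exact sub_mem (hsq _) (hsq _)
  · obtain ⟨y, hy⟩ := isSquare_char_two (F := F) c
    rw [hy]
    exact hsq y

/-- The step of the long cycle. -/
def step (r : ℕ) [NeZero r] : Fin r ⊕ Fin r → Fin r ⊕ Fin r
  | .inl i => if i + 1 = 0 then .inr 0 else .inl (i + 1)
  | .inr i => if i + 1 = 0 then .inl 0 else .inr (i + 1)

theorem step_iterate [NeZero r] : ∀ n, n < r →
    (step r)^[n] (Sum.inl 0) = Sum.inl (n : Fin r) ∧ (step r)^[r + n] (Sum.inl 0) = Sum.inr (n : Fin r) ∧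
      (step r)^[n] (Sum.inr 0) = Sum.inr (n : Fin r) := by
  have key : ∀ n, n < r → (step r)^[n] (Sum.inl 0) = Sum.inl (n : Fin r) ∧
      (step r)^[n] (Sum.inr 0) = Sum.inr (n : Fin r) := by
    intro n
    induction n with
    | zero => simp
    | succ n ih =>
      intro hn
      obtain ⟨h1, h2⟩ := ih (by omega)
      have hne : (n : Fin r) + 1 ≠ 0 := fun e => by
        have := congrArg Fin.val e
        rw [← Nat.cast_succ, Fin.val_natCast, Nat.mod_eq_of_lt hn, Fin.val_zero] at this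
        omega
      refine ⟨?_, ?_⟩
      · rw [Function.iterate_succ_apply', h1, step, if_neg hne, Nat.cast_succ]
      · rw [Function.iterate_succ_apply', h2, step, if_neg hne, Nat.cast_succ]
  intro n hn
  refine ⟨(key n hn).1, ?_, (key n hn).2⟩
  have hr : 1 ≤ r := Nat.pos_of_ne_zero (NeZero.ne r)
  have h1 : (step r)^[r] (Sum.inl 0) = Sum.inr 0 := by
    obtain ⟨k, rfl⟩ : ∃ k, r = k + 1 := ⟨r - 1, by omega⟩
    rw [Function.iterate_succ_apply', (key k (by omega)).1, step, if_pos]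
    apply Fin.ext
    simp [Fin.val_add]
  rw [add_comm, Function.iterate_add_apply, h1, (key n hn).2]

theorem step_period [NeZero r] : (step r)^[r + r] (Sum.inl 0) = Sum.inl 0 := by
  have hr : 1 ≤ r := Nat.pos_of_ne_zero (NeZero.ne r)
  obtain ⟨k, rfl⟩ : ∃ k, r = k + 1 := ⟨r - 1, by omega⟩
  have h := (step_iterate (r := k + 1) k (by omega)).2.1
  rw [show k + 1 + (k + 1) = (k + 1 + k) + 1 by ring, Function.iterate_succ_apply', h, step, if_pos]
  apply Fin.ext
  simp [Fin.val_add]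

theorem step_trans [NeZero r] (i : Fin r) (k : Fin r ⊕ Fin r) : ∃ n, (step r)^[n] (Sum.inl i) = k := by
  have hback : (step r)^[r + r - i] (Sum.inl i) = Sum.inl 0 := by
    have := (step_iterate i i.isLt).1
    rw [Fin.cast_val_eq_self] at this
    rw [← this, ← Function.iterate_add_apply, show r + r - (i : ℕ) + i = r + r by omega, step_period]
  obtain ⟨n, hn⟩ : ∃ n, (step r)^[n] (Sum.inl 0) = k := by
    rcases k with j | j
    · exact ⟨j, by rw [(step_iterate j j.isLt).1, Fin.cast_val_eq_self]⟩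
    · exact ⟨r + j, by rw [(step_iterate j j.isLt).2.1, Fin.cast_val_eq_self]⟩
  exact ⟨n + (r + r - i), by rw [Function.iterate_add_apply, hback, hn]⟩

/-- The Levi elements in the frame. -/
noncomputable def lev (r : ℕ) (Q₀ : QuadraticForm F (α → F)) : GL (Fin r) F →* oGroup (frameQ r Q₀) :=
  (extendLeft (plusQ r) Q₀).comp (levi r)

theorem lev_wv (A : GL (Fin r) F) (w : α → F) : (lev r Q₀ A).1 (wv r w) = wv r w := by
  show (extendLeft (plusQ r) Q₀ (levi r A)).1 _ = _
  rw [extendLeft_apply, wv, Sum.elim_comp_inl, Sum.elim_comp_inr, map_zero]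

theorem lev_inl (A : GL (Fin r) F) {i j : Fin r} {c : F}
    (h : ∀ l, (A : Matrix (Fin r) (Fin r) F) l i = if l = j then c else 0) :
    (lev r Q₀ A).1 (ev (Sum.inl i)) = c • ev (Sum.inl j) := by
  show (extendLeft (plusQ r) Q₀ (levi r A)).1 _ = _
  rw [extendLeft_apply, ev, Sum.elim_comp_inl, Sum.elim_comp_inr, levi_apply]
  funext k
  rcases k with (k | k) | k <;>
    simp [ev, Matrix.mulVec, dotProduct, Pi.single_apply, h]

theorem lev_inr (A : GL (Fin r) F) {i j : Fin r} {c : F}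
    (h : ∀ l, ((A⁻¹ : GL (Fin r) F) : Matrix (Fin r) (Fin r) F) i l = if l = j then c else 0) :
    (lev r Q₀ A).1 (ev (Sum.inr i)) = c • ev (Sum.inr j) := by
  show (extendLeft (plusQ r) Q₀ (levi r A)).1 _ = _
  rw [extendLeft_apply, ev, Sum.elim_comp_inl, Sum.elim_comp_inr, levi_apply]
  funext k
  rcases k with (k | k) | k <;>
    simp [ev, Matrix.mulVec, dotProduct, Pi.single_apply, Matrix.transpose_apply, h, -Matrix.coe_units_inv]

theorem lev_mem (h₀ : (polarBilin Q₀).Nondegenerate) (hn : 5 ≤ 2 * r + Fintype.card α)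
    (hr : Nat.card F ≠ 2 ∨ r ≠ 2) {A : GL (Fin r) F}
    (hA : IsSquare (A : Matrix (Fin r) (Fin r) F).det) :
    lev r Q₀ A ∈ commutator (oGroup (frameQ r Q₀)) := by
  refine (extendLeft_mem_iff (plusQ r) Q₀ (plusQ_nondeg r) h₀ (hgen_plus hr) (Or.inr ?_) _).2
    ((levi_mem_iff hr A).2 hA)
  simp only [Module.finrank_fintype_fun_eq_card, Fintype.card_sum, Fintype.card_fin]
  omega

/-- The long cycle in the frame. -/
theorem exists_cycle [NeZero r] (hr2 : 2 ≤ r) (h₀ : (polarBilin Q₀).Nondegenerate)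
    (hn : 5 ≤ 2 * r + Fintype.card α) (hr : Nat.card F ≠ 2 ∨ r ≠ 2) {u : α → F} (hu : Q₀ u ≠ 0) :
    ∃ b ∈ commutator (oGroup (frameQ r Q₀)),
      (∀ k, ∃ c : F, c ≠ 0 ∧ b.1 (ev k) = c • ev (step r k)) ∧
      (∀ i : Fin r, i + 1 ≠ 0 → b.1 (ev (Sum.inl i)) = ev (Sum.inl (i + 1))) ∧
      ∀ w, b.1 (wv r w) = wv r ((refl Q₀ u).1 w) := by
  set π := finRotate r with hπ
  let t : Fin r → Fˣ := fun i => if i = 0 then Units.map (Int.castRingHom F).toMonoidHom (Equiv.Perm.sign π) else 1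
  set C : GL (Fin r) F := monoGL t π
  have hπ1 : ∀ i, π i = i + 1 := fun i => finRotate_apply i
  have hdet : (C : Matrix (Fin r) (Fin r) F).det = 1 := by
    rw [show (C : Matrix (Fin r) (Fin r) F) = Matrix.diagonal (fun i => (t i : F)) * (π⁻¹).permMatrix F from ?_,
      Matrix.det_mul, Matrix.det_diagonal, Matrix.det_permutation, Equiv.Perm.sign_inv,
      Finset.prod_eq_single (0 : Fin r)]
    · simp only [t, if_true, Units.coe_map, RingHom.toMonoidHom_eq_coe, MonoidHom.coe_coe, Int.coe_castRingHom]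
      rcases Int.units_eq_one_or (Equiv.Perm.sign π) with e | e <;> simp [e]
    · intro i _ hi; simp [t, hi]
    · simp
    · ext i j
      rw [monoGL_apply, Matrix.diagonal_mul, Equiv.Perm.permMatrix]
      simp only [PEquiv.toMatrix_apply, Equiv.toPEquiv_apply, Option.mem_def, Option.some.injEq,
        Equiv.Perm.inv_def]
      by_cases h : π j = i
      · rw [if_pos h, ← h]; simp
      · rw [if_neg h, if_neg fun e => h (by rw [← e, Equiv.apply_symm_apply]), mul_zero]
  set d : (Fin r ⊕ Fin r) ⊕ α → F := ev (Sum.inl 0) + Q₀ u • ev (Sum.inr (0 : Fin r)) with hd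
  have hQd : frameQ r Q₀ d = Q₀ u := by
    rw [hd, quad_add, quad_smul, frameQ_ev, frameQ_ev, polar_smul_right, polar_ev]
    simp [ev]
  have hQu : frameQ r Q₀ (wv r u) ≠ 0 := by rwa [frameQ_wv]
  have hg1 : refl (frameQ r Q₀) d * refl (frameQ r Q₀) (wv r u) ∈ commutator (oGroup (frameQ r Q₀)) :=
    refl_pair_mem_commutator (frameQ_nondeg Q₀ h₀) (by rwa [hQd]) hQu (by
      rw [hQd, frameQ_wv]; exact IsSquare.mul_self _)
  refine ⟨refl (frameQ r Q₀) d * refl (frameQ r Q₀) (wv r u) * lev r Q₀ C,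
    mul_mem hg1 (lev_mem h₀ hn hr (by rw [hdet]; exact IsSquare.one)), ?_⟩
  have hfixu : ∀ k, (refl (frameQ r Q₀) (wv r u)).1 (ev k) = ev k := fun k => refl_fix (polar_ev_wv Q₀ k u)
  have hfix : ∀ k, k ≠ Sum.inl 0 → k ≠ Sum.inr 0 → (refl (frameQ r Q₀) d).1 (ev k) = ev k := fun k h1 h2 => by
    refine refl_fix ?_
    rw [polar_ev]
    have e1 : k.swap ≠ Sum.inl 0 := fun e => h2 (by simpa using congrArg Sum.swap e)
    have e2 : k.swap ≠ Sum.inr 0 := fun e => h1 (by simpa using congrArg Sum.swap e)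
    simp [hd, ev, e1, e2]
  have hl0 : (refl (frameQ r Q₀) d).1 (ev (Sum.inl 0)) = (-Q₀ u) • ev (Sum.inr 0) := by
    rw [refl_apply, hQd, polar_ev, hd]
    funext x
    simp [ev]
    field_simp
    ring
  have hr0 : (refl (frameQ r Q₀) d).1 (ev (Sum.inr 0)) = (-(Q₀ u)⁻¹) • ev (Sum.inl 0) := by
    rw [refl_apply, hQd, polar_ev, hd]
    funext x
    simp [ev]
    field_simp
    ring
  have hCl : ∀ i, (lev r Q₀ C).1 (ev (Sum.inl i)) = (t (i + 1) : F) • ev (Sum.inl (i + 1)) := fun i =>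
    lev_inl C fun l => by
      rw [monoGL_apply, hπ1]
      by_cases h : l = i + 1
      · rw [if_pos h, if_pos h.symm, h]
      · rw [if_neg h, if_neg (Ne.symm h)]
  have hCr : ∀ i, (lev r Q₀ C).1 (ev (Sum.inr i)) = (((t (i + 1))⁻¹ : Fˣ) : F) • ev (Sum.inr (i + 1)) := fun i =>
    lev_inr C fun l => by
      rw [monoGL_inv, monoGL_apply, hπ1]
      by_cases h : l = i + 1
      · rw [if_pos h, if_pos (Equiv.Perm.inv_eq_iff_eq.2 (h.trans (hπ1 i).symm))]
      · rw [if_neg h, if_neg fun e => h ((Equiv.Perm.inv_eq_iff_eq.1 e).trans (hπ1 i))]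
  have happ : ∀ x, (refl (frameQ r Q₀) d * refl (frameQ r Q₀) (wv r u) * lev r Q₀ C).1 x =
      (refl (frameQ r Q₀) d).1 ((refl (frameQ r Q₀) (wv r u)).1 ((lev r Q₀ C).1 x)) := fun x => rfl
  refine ⟨fun k => ?_, fun i hi => ?_, fun w => ?_⟩
  · rcases k with i | i
    · rw [happ, hCl, map_smul, map_smul, hfixu, step]
      by_cases hi : i + 1 = 0
      · rw [if_pos hi, hi, hl0, smul_smul]
        exact ⟨_, mul_ne_zero (Units.ne_zero _) (neg_ne_zero.2 hu), rfl⟩
      · rw [if_neg hi, hfix _ (by simpa using hi) (by simp)]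
        exact ⟨_, Units.ne_zero _, rfl⟩
    · rw [happ, hCr, map_smul, map_smul, hfixu, step]
      by_cases hi : i + 1 = 0
      · rw [if_pos hi, hi, hr0, smul_smul]
        exact ⟨_, mul_ne_zero (Units.ne_zero _) (neg_ne_zero.2 (inv_ne_zero hu)), rfl⟩
      · rw [if_neg hi, hfix _ (by simp) (by simpa using hi)]
        exact ⟨_, Units.ne_zero _, rfl⟩
  · rw [happ, hCl, map_smul, map_smul, hfixu, hfix _ (by simpa using hi) (by simp)]
    simp [t, hi]
  · rw [happ, lev_wv, refl_apply (wv r u), polar_wv, frameQ_wv, ← wv_smul, ← wv_add, refl_fix, refl_apply u w]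
    rw [hd, polar_add_right, polar_smul_right, polar_ev_right, polar_ev_right]
    simp [wv]

theorem exists_two_gen [NeZero r] (hr2 : 2 ≤ r) (h₀ : (polarBilin Q₀).Nondegenerate)
    (hn : 5 ≤ 2 * r + Fintype.card α) (hr : Nat.card F ≠ 2 ∨ r ≠ 2) (hab : ∃ a b : α → F, polar Q₀ a b ≠ 0)
    {u w₀ : α → F} (hu : Q₀ u ≠ 0) (A : GL (Fin r) F)
    (hAdet : IsSquare (A : Matrix (Fin r) (Fin r) F).det)
    (hA0 : ∀ l, (A : Matrix (Fin r) (Fin r) F) l 0 = if l = 0 then 1 else 0)
    {p N : ℕ} (hp : p.Prime) [CharP F p] {e : ℕ} (hAN : A ^ N = 1) (hNp : N + 1 = p ^ e) (he : 1 ≤ e)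
    (hsq : ∀ y : F, y ≠ 0 → ∃ k : ℕ, ∀ l,
      ((A ^ k : GL (Fin r) F) : Matrix (Fin r) (Fin r) F) l 1 = if l = 1 then y * y else 0)
    (hmix : Submodule.span F {(refl Q₀ u).1 w₀} = ⊤ ∨
      3 ≤ r ∧ (∀ l, (A : Matrix (Fin r) (Fin r) F) l 1 = if l = 2 then 1 else 0) ∧
        Submodule.span F {w₀, (refl Q₀ u).1 w₀} = ⊤) :
    ∃ x y : oGroup (frameQ r Q₀),
      Subgroup.closure {x, y} = commutator (oGroup (frameQ r Q₀)) := by
  set Q := frameQ r Q₀
  obtain ⟨b, hb, hbev, hb1, hbw⟩ := exists_cycle hr2 h₀ hn hr hu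
  have hfr : 5 ≤ Module.finrank F ((Fin r ⊕ Fin r) ⊕ α → F) := by
    simpa [Module.finrank_fintype_fun_eq_card, Fintype.card_sum, two_mul] using hn
  set ρ := (refl Q₀ u).1
  have hρρ : ∀ w, ρ (ρ w) = w := fun w => by
    exact reflMap_involutive u w
  set x₀ := siegel Q (ev (Sum.inl 0)) (wv r w₀)
  set h := lev r Q₀ A
  have hx₀ : x₀ ∈ commutator (oGroup Q) := siegelGroup_le_commutator (frameQ_nondeg Q₀ h₀) hfr
    (siegel_mem_group (frameQ_ev Q₀ _) (polar_ev_wv Q₀ _ _))
  refine ⟨h * x₀, b, le_antisymm ((Subgroup.closure_le _).2 ?_) ?_⟩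
  · rintro g (rfl | rfl)
    · exact mul_mem (lev_mem h₀ hn hr hAdet) hx₀
    · exact hb
  set S := Subgroup.closure {h * x₀, b}
  have hbS : b ∈ S := Subgroup.subset_closure (Or.inr rfl)
  have haS : h * x₀ ∈ S := Subgroup.subset_closure (Or.inl rfl)
  have hh0 : h.1 (ev (Sum.inl 0)) = ev (Sum.inl 0) := (lev_inl A hA0).trans (one_smul F _)
  have hcomm : Commute h x₀ := by
    refine eq_mul_of_mul_inv_eq ?_
    rw [siegel_conj h (frameQ_ev Q₀ _) (polar_ev_wv Q₀ _ _), hh0, lev_wv]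
  have hxS : x₀ ∈ S := by
    have hhN : h ^ N = 1 := by rw [← map_pow, hAN, map_one]
    have hxp : ∀ n : ℕ, x₀ ^ n = siegel Q (ev (Sum.inl 0)) (n • wv r w₀) := by
      intro n
      induction n with
      | zero => rw [pow_zero, zero_smul, siegel_zero (frameQ_ev Q₀ _)]
      | succ n ih =>
        rw [pow_succ, ih, siegel_mul (frameQ_ev Q₀ _) (by rw [← wv_nsmul]; exact polar_ev_wv Q₀ _ _)
          (polar_ev_wv Q₀ _ _), succ_nsmul]
    have hxe : x₀ ^ (N + 1) = 1 := by
      have h0 : ((p ^ e : ℕ) : F) = 0 := by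
        rw [Nat.cast_pow, CharP.cast_eq_zero F p, zero_pow (by omega)]
      rw [hxp, hNp, ← Nat.cast_smul_eq_nsmul F, h0, zero_smul, siegel_zero (frameQ_ev Q₀ _)]
    have := pow_mem haS N
    rw [hcomm.mul_pow, hhN, one_mul, eq_inv_of_mul_eq_one_left (by rw [← pow_succ]; exact hxe :
      x₀ ^ N * x₀ = 1)] at this
    exact inv_mem_iff.1 this
  have hhS : h ∈ S := by simpa using mul_mem haS (inv_mem hxS)
  have conjb : ∀ {k k' : Fin r ⊕ Fin r} {c : F} {v : α → F}, b.1 (ev k) = c • ev k' →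
      siegel Q (ev k) (wv r v) ∈ S → siegel Q (ev k') (wv r (c • ρ v)) ∈ S := by
    intro k k' c v hk hv
    have := mul_mem (mul_mem hbS hv) (inv_mem hbS)
    rw [siegel_conj b (frameQ_ev Q₀ _) (polar_ev_wv Q₀ _ _), hk, hbw,
      siegel_smul (frameQ_ev Q₀ _) (polar_ev_wv Q₀ _ _), ← wv_smul] at this
    exact this
  have hr1 : ((1 : Fin r) : ℕ) = 1 := by
    rw [Fin.val_one', Nat.mod_eq_of_lt (by omega)]
  have hb01 : b.1 (ev (Sum.inl 0)) = (1 : F) • ev (Sum.inl 1) := by
    rw [one_smul, hb1 0 (by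
      rw [zero_add]; intro e
      have := congrArg Fin.val e
      rw [hr1, Fin.val_zero] at this; omega), zero_add]
  let M : AddSubgroup F :=
    { carrier := {c | siegel Q (ev (Sum.inl 1)) (wv r (c • ρ w₀)) ∈ S}
      zero_mem' := by
        show siegel Q _ (wv r ((0 : F) • _)) ∈ S
        rw [zero_smul, wv_zero, siegel_zero (frameQ_ev Q₀ _)]; exact one_mem S
      add_mem' := fun {c c'} hc hc' => by
        show siegel Q _ (wv r ((c + c') • _)) ∈ S
        rw [add_smul, wv_add, ← siegel_mul (frameQ_ev Q₀ _) (polar_ev_wv Q₀ _ _) (polar_ev_wv Q₀ _ _)]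
        exact mul_mem hc hc'
      neg_mem' := fun {c} hc => by
        show siegel Q _ (wv r (-c • _)) ∈ S
        rw [neg_smul, wv_neg, ← siegel_inv (frameQ_ev Q₀ _) (polar_ev_wv Q₀ _ _)]
        exact inv_mem hc }
  have h1w : siegel Q (ev (Sum.inl 1)) (wv r ((1 : F) • ρ w₀)) ∈ S := conjb hb01 hxS
  have hMtop : M = ⊤ := eq_top_of_squares fun y hy => by
    obtain ⟨k, hk⟩ := hsq y hy
    have := mul_mem (mul_mem (pow_mem hhS k) h1w) (inv_mem (pow_mem hhS k))
    rw [← map_pow] at this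
    rw [siegel_conj _ (frameQ_ev Q₀ _) (polar_ev_wv Q₀ _ _), lev_inl _ hk, lev_wv,
      siegel_smul (frameQ_ev Q₀ _) (polar_ev_wv Q₀ _ _), ← wv_smul, smul_smul, mul_one] at this
    exact this
  have hall : ∀ c, siegel Q (ev (Sum.inl 1)) (wv r (c • ρ w₀)) ∈ S := fun c =>
    (show c ∈ M by rw [hMtop]; trivial)
  obtain ⟨i₀, hi₀⟩ : ∃ i₀ : Fin r, ∀ v, siegel Q (ev (Sum.inl i₀)) (wv r v) ∈ S := by
    have hspan : ∀ (i : Fin r) (s : Set (α → F)), Submodule.span F s = ⊤ →
        (∀ v ∈ s, ∀ c : F, siegel Q (ev (Sum.inl i)) (wv r (c • v)) ∈ S) →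
        ∀ v, siegel Q (ev (Sum.inl i)) (wv r v) ∈ S := by
      intro i s hs hmem v
      have hv : v ∈ Submodule.span F s := by rw [hs]; trivial
      suffices ∀ c : F, siegel Q (ev (Sum.inl i)) (wv r (c • v)) ∈ S by simpa using this 1
      induction hv using Submodule.span_induction with
      | mem v hv => exact hmem v hv
      | zero => intro c; rw [smul_zero, wv_zero, siegel_zero (frameQ_ev Q₀ _)]; exact one_mem S
      | add v v' _ _ hv hv' =>
        intro c
        rw [smul_add, wv_add, ← siegel_mul (frameQ_ev Q₀ _) (polar_ev_wv Q₀ _ _) (polar_ev_wv Q₀ _ _)]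
        exact mul_mem (hv c) (hv' c)
      | smul d v _ hv => intro c; rw [smul_smul]; exact hv _
    rcases hmix with hs | ⟨hr3, hA1, hs⟩
    · exact ⟨1, hspan 1 _ hs fun v hv c => by rw [Set.mem_singleton_iff.1 hv]; exact hall c⟩
    · refine ⟨2, hspan 2 _ hs fun v hv c => ?_⟩
      have h12 : (1 : Fin r) + 1 = 2 := by
        apply Fin.ext
        simp [Fin.val_add, Nat.mod_eq_of_lt (show 2 < r by omega), hr1]
      have hb12 : b.1 (ev (Sum.inl 1)) = (1 : F) • ev (Sum.inl 2) := by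
        rw [one_smul, hb1 1 (by
          intro e
          have := congrArg Fin.val e
          simp [Fin.val_add, hr1, Nat.mod_eq_of_lt (show 2 < r by omega)] at this), h12]
      rcases hv with rfl | hv
      · have := conjb hb12 (hall c)
        rwa [one_smul, map_smul, hρρ] at this
      · rw [Set.mem_singleton_iff.1 hv]
        have := mul_mem (mul_mem hhS (hall c)) (inv_mem hhS)
        rwa [siegel_conj h (frameQ_ev Q₀ _) (polar_ev_wv Q₀ _ _), lev_wv,
          show h.1 (ev (Sum.inl 1)) = (1 : F) • ev (Sum.inl 2) from lev_inl A hA1, one_smul] at this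
  refine le_of_core_roots h₀ hn (Sum.inl 0) hab fun k => ?_
  obtain ⟨n, hn'⟩ := step_trans i₀ k
  subst hn'
  induction n with
  | zero => exact hi₀
  | succ n ih =>
    intro v
    obtain ⟨c, hc, hck⟩ := hbev ((step r)^[n] (Sum.inl i₀))
    rw [Function.iterate_succ_apply']
    have := conjb hck (ih (ρ (c⁻¹ • v)))
    rwa [hρρ, smul_smul, mul_inv_cancel₀ hc, one_smul] at this

end CfsgLib.TwoGen
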