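import Cfsg.Agent.Geo.UnitEichler
import Cfsg.Agent.RegUnip.Gen
import Cfsg.Agent.Pronormal.EvenBN

/-!
# Frames and generation criteria for special unitary groups
-/

set_option autoImplicit false
set_option linter.unusedSectionVars false
set_option linter.style.haveILetI false

namespace CfsgLib.TwoGen.Unit

open Matrix Cfsg Cfsg.Geo CfsgLib.Geo CfsgLib.Geo.UTv CfsgLib.Pronormal

variable {F : Type*} [Field F] [Finite F] {q : ℕ}

local notation "hh" => Cfsg.hermForm _ F q

/-! ### Additive closures -/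

theorem add_top_of_mul {M : AddSubgroup F} {g z : F} (hq : Nat.card F = q ^ 2) (hg : g ≠ 0)
    (ho : ∀ k, 0 < k → g ^ k = 1 → q - 1 < k) (hz : z ∈ M) (hz0 : z ≠ 0)
    (hinv : ∀ y ∈ M, g * y ∈ M) : M = ⊤ := by
  haveI := Fintype.ofFinite F
  have hR : Subring.closure ({g} : Set F) = ⊤ := by
    by_contra hne
    obtain ⟨p, hp⟩ := CharP.exists F
    obtain ⟨m, hpp, hm⟩ := FiniteField.card F p
    obtain ⟨k, hk1, hk2, hk⟩ := CfsgLib.RegUnip.exists_pow_eq_of_not_generator hpp hm hne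
    have h2 : 2 ≤ p ^ k := hpp.two_le.trans (Nat.le_self_pow (by omega) p)
    have h1 : g ^ (p ^ k - 1) = 1 := mul_right_cancel₀ hg (by
      rw [← pow_succ, show p ^ k - 1 + 1 = p ^ k by omega, hk, one_mul])
    have h3 := ho _ (by omega) h1
    have h4 : p ^ k ≤ q := Nat.pow_le_pow_iff_left (n := 2) (by omega) |>.1 (by
      rw [← hq, Nat.card_eq_fintype_card, hm, ← pow_mul]
      exact Nat.pow_le_pow_right hpp.pos (by omega))
    omega
  let R : Subring F :=
    { carrier := {r | ∀ y ∈ M, r * y ∈ M}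
      one_mem' := fun y hy => by rwa [one_mul]
      mul_mem' := fun {r s} hr hs y hy => by rw [mul_assoc]; exact hr _ (hs y hy)
      zero_mem' := fun y _ => by rw [zero_mul]; exact zero_mem M
      add_mem' := fun {r s} hr hs y hy => by rw [add_mul]; exact add_mem (hr y hy) (hs y hy)
      neg_mem' := fun {r} hr y hy => by rw [neg_mul]; exact neg_mem (hr y hy) }
  have hle : Subring.closure ({g} : Set F) ≤ R := Subring.closure_le.2 (Set.singleton_subset_iff.2 hinv)
  rw [hR] at hle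
  refine eq_top_iff.2 fun y _ => ?_
  have := hle (Subring.mem_top (y / z)) z hz
  rwa [div_mul_cancel₀ _ hz0] at this

/-! ### Frames -/

/-- The pairing of the frame. -/
def sw (d : ℕ) : Equiv.Perm (Fin (d + 2)) := Equiv.swap 0 1

/-- A basis with a hyperbolic pair at the first two places, orthonormal elsewhere. -/
def IsFrame (q : ℕ) {d : ℕ} (P : GL (Fin (d + 2)) F) : Prop :=
  ∀ x y : Fin (d + 2) → F, Cfsg.hermForm (d + 2) F q ((P : Matrix (Fin (d + 2)) (Fin (d + 2)) F) *ᵥ x)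
    ((P : Matrix (Fin (d + 2)) (Fin (d + 2)) F) *ᵥ y) = ∑ i, x i * y (sw d i) ^ q

variable {d : ℕ}

/-- The vectors of a frame. -/
def vec (P : GL (Fin (d + 2)) F) (i : Fin (d + 2)) : Fin (d + 2) → F :=
  (P : Matrix (Fin (d + 2)) (Fin (d + 2)) F) *ᵥ Pi.single i 1

/-- Monomial elements in a frame. -/
noncomputable def el (P : GL (Fin (d + 2)) F) (t : Fin (d + 2) → Fˣ) (π : Equiv.Perm (Fin (d + 2))) :
    GL (Fin (d + 2)) F := P * monoGL t π * P⁻¹

variable (hF : Nat.card F = q ^ 2)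
include hF

theorem exists_frame (d : ℕ) : ∃ P : GL (Fin (d + 2)) F, IsFrame q P := by
  have hq := CfsgLib.Forms.two_le_q hF
  have hfr : ∀ a : F, (a ^ q) ^ q = a := fun a => by
    haveI := Fintype.ofFinite F
    rw [← pow_mul, ← pow_two, ← hF, Nat.card_eq_fintype_card, FiniteField.pow_card]
  obtain ⟨c, hc⟩ := CfsgLib.Unitary.exists_norm_eq hF (μ := (-1 : F)) (by
    rcases Nat.even_or_odd q with he | ho
    · rw [he.neg_one_pow]
      obtain ⟨p, hp⟩ := CharP.exists F
      haveI := Fintype.ofFinite F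
      obtain ⟨m, hpp, hm⟩ := FiniteField.card F p
      have h2 : 2 ∣ Fintype.card F := by
        rw [← Nat.card_eq_fintype_card, hF]
        exact dvd_pow he.two_dvd (by norm_num)
      rw [hm] at h2
      have hp2 : p = 2 := ((Nat.prime_dvd_prime_iff_eq Nat.prime_two hpp).1 (Nat.prime_two.dvd_of_dvd_pow h2)).symm
      subst hp2
      exact (CharTwo.neg_eq 1).symm
    · exact ho.neg_one_pow)
  obtain ⟨δ, hδ1, hδ⟩ : ∃ δ : F, δ ≠ 1 ∧ δ ^ (q + 1) = 1 := by
    obtain ⟨r, hr⟩ : ∃ r : F, r ^ q ≠ r := by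
      by_contra hc'
      push Not at hc'
      exact CfsgLib.Forms.frobQ_ne_id hF (RingHom.ext fun a => by rw [CfsgLib.Forms.frobQ_apply, hc']; rfl)
    have hr0 : r ≠ 0 := fun e => hr (by rw [e, zero_pow (by omega)])
    have hrq : r ^ q ≠ 0 := pow_ne_zero _ hr0
    refine ⟨r ^ q / r, fun e => hr (by rwa [div_eq_one_iff_eq hr0] at e), ?_⟩
    rw [div_pow, pow_succ (r ^ q), hfr, pow_succ r, mul_comm r, div_self (mul_ne_zero hrq hr0)]
  set v := c * δ with hv
  have hvn : v ^ (q + 1) = -1 := by rw [hv, mul_pow, hc, hδ, mul_one]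
  have hk : 1 + c * v ^ q ≠ 0 := fun e => hδ1 (by
    have hc0 : c ≠ 0 := fun h => by rw [h, zero_pow (by omega)] at hc; exact one_ne_zero (neg_eq_zero.1 hc.symm)
    have h1 : c * v ^ q = v ^ (q + 1) := by rw [hvn]; linear_combination e
    rw [pow_succ, mul_comm (v ^ q)] at h1
    have h2 : c = v := mul_right_cancel₀ (pow_ne_zero q (by
      intro h; rw [h, zero_pow (by omega)] at hvn; exact one_ne_zero (neg_eq_zero.1 hvn.symm))) h1
    rw [hv] at h2
    exact mul_left_cancel₀ hc0 (by rw [mul_one]; exact h2.symm))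
  set u := ((1 + c * v ^ q)⁻¹) ^ q with hu
  have hue : (u ^ q) * (1 + c * v ^ q) = 1 := by rw [hu, hfr, inv_mul_cancel₀ hk]
  have hu0 : u ≠ 0 := pow_ne_zero _ (inv_ne_zero hk)
  let L : (Fin (d + 2) → F) →ₗ[F] (Fin (d + 2) → F) :=
    { toFun := fun x i => if i = 0 then x 0 + u * x 1 else if i = 1 then c * x 0 + u * v * x 1 else x i
      map_add' := fun x y => by funext i; simp only [Pi.add_apply]; split_ifs <;> ring
      map_smul' := fun k x => by funext i; simp only [Pi.smul_apply, smul_eq_mul, RingHom.id_apply]; split_ifs <;> ring }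
  have hinj : Function.Injective L := by
    rw [injective_iff_map_eq_zero]
    intro x hx
    have e0 : x 0 + u * x 1 = 0 := by simpa [L] using congrFun hx 0
    have e1 : c * x 0 + u * v * x 1 = 0 := by simpa [L] using congrFun hx 1
    have hcv : v - c ≠ 0 := fun e => hk (by
      have : v = c := sub_eq_zero.1 e
      rw [this, ← pow_succ', hc]; ring)
    have hx1 : x 1 = 0 := (mul_eq_zero.1 (by linear_combination e1 - c * e0 :
      (u * (v - c)) * x 1 = 0)).resolve_left (mul_ne_zero hu0 hcv)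
    have hx0 : x 0 = 0 := by rw [hx1, mul_zero, add_zero] at e0; exact e0
    funext i
    have := congrFun hx i
    simp only [L, LinearMap.coe_mk, AddHom.coe_mk, Pi.zero_apply] at this
    by_cases h0 : i = 0
    · rw [h0, hx0]; rfl
    by_cases h1 : i = 1
    · rw [h1, hx1]; rfl
    rwa [if_neg h0, if_neg h1] at this
  let E := LinearEquiv.ofBijective L ⟨hinj, LinearMap.injective_iff_surjective.1 hinj⟩
  refine ⟨CfsgLib.Unitary.glOfEquiv E, fun x y => ?_⟩
  rw [CfsgLib.Unitary.glOfEquiv_mulVec, CfsgLib.Unitary.glOfEquiv_mulVec]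
  show Cfsg.hermForm (d + 2) F q (L x) (L y) = _
  unfold Cfsg.hermForm
  rw [Fin.sum_univ_succ, Fin.sum_univ_succ, Fin.sum_univ_succ, Fin.sum_univ_succ]
  have hne : ∀ i : Fin d, i.succ.succ ≠ (0 : Fin (d + 2)) ∧ i.succ.succ ≠ 1 :=
    fun i => ⟨Fin.succ_ne_zero _, fun e => Fin.succ_ne_zero i (Fin.succ_inj.1 (e.trans Fin.succ_zero_eq_one.symm))⟩
  have hs : ∀ i : Fin d, sw d i.succ.succ = i.succ.succ := fun i =>
    Equiv.swap_apply_of_ne_of_ne (hne i).1 (hne i).2
  have hr : ∀ (z : Fin (d + 2) → F) (i : Fin d), L z i.succ.succ = z i.succ.succ := fun z i => by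
    simp [L, (hne i).1, (hne i).2]
  simp only [hs, hr]
  simp only [sw, Fin.succ_zero_eq_one, Equiv.swap_apply_left, Equiv.swap_apply_right]
  have hL0 : ∀ z, L z 0 = z 0 + u * z 1 := fun z => by simp [L]
  have hL1 : ∀ z, L z 1 = c * z 0 + u * v * z 1 := fun z => by simp [L]
  rw [hL0, hL0, hL1, hL1]
  have hadd : ∀ a b : F, (a + b) ^ q = a ^ q + b ^ q := fun a b => by
    rw [← CfsgLib.Forms.frobQ_apply hF, map_add, CfsgLib.Forms.frobQ_apply, CfsgLib.Forms.frobQ_apply]
  have hue' : u * (1 + c ^ q * v) = 1 := by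
    have h1 := congrArg (· ^ q) hue
    simp only [mul_pow, hfr, hadd, one_pow] at h1
    exact h1
  rw [pow_succ] at hc hvn
  rw [hadd, hadd, mul_pow, mul_pow, mul_pow, mul_pow]
  linear_combination (x 0 * y 0 ^ q) * hc + (u * u ^ q * x 1 * y 1 ^ q) * hvn + (x 0 * y 1 ^ q) * hue +
    (x 1 * y 0 ^ q) * hue'

theorem pow_q_q (a : F) : (a ^ q) ^ q = a := by
  haveI := Fintype.ofFinite F
  rw [← pow_mul, ← pow_two, ← hF, Nat.card_eq_fintype_card, FiniteField.pow_card]

variable {P : GL (Fin (d + 2)) F} (hP : IsFrame q P)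
include hP

theorem herm_vec (i j : Fin (d + 2)) : hh (vec P i) (vec P j) = if sw d i = j then 1 else 0 := by
  rw [vec, vec, hP, Finset.sum_eq_single i]
  · have hq := CfsgLib.Forms.two_le_q hF
    rw [Pi.single_eq_same, one_mul, Pi.single_apply]
    split_ifs <;> simp [zero_pow (show q ≠ 0 by omega)]
  · intro k _ hk
    rw [Pi.single_eq_of_ne hk, zero_mul]
  · simp

omit hP in
theorem el_vec (t : Fin (d + 2) → Fˣ) (π : Equiv.Perm (Fin (d + 2))) (i : Fin (d + 2)) :
    (el P t π : Matrix (Fin (d + 2)) (Fin (d + 2)) F) *ᵥ vec P i = (t (π i) : F) • vec P (π i) := by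
  rw [vec, vec, el, Matrix.mulVec_mulVec, ← Units.val_mul, inv_mul_cancel_right, Units.val_mul,
    ← Matrix.mulVec_mulVec, ← Matrix.mulVec_smul]
  congr 1
  funext k
  rw [Matrix.mulVec_single_one, Matrix.col_apply, monoGL_apply, Pi.smul_apply, Pi.single_apply, smul_eq_mul]
  by_cases h : π i = k
  · subst h; simp
  · rw [if_neg h, if_neg (Ne.symm h), mul_zero]

theorem el_mem {t : Fin (d + 2) → Fˣ} {π : Equiv.Perm (Fin (d + 2))}
    (hπ : ∀ i, π (sw d i) = sw d (π i)) (ht : ∀ i, (t i : F) * (t (sw d i) : F) ^ q = 1)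
    (hdet : (∏ i, (t i : F)) * ((Equiv.Perm.sign π : ℤ) : F) = 1) : el P t π ∈ suGL (d + 2) F q := by
  have hM : ∀ x i, ((monoGL t π : Matrix (Fin (d + 2)) (Fin (d + 2)) F) *ᵥ x) (π i) = t (π i) * x i := fun x i => by
    rw [Matrix.mulVec, dotProduct, Finset.sum_eq_single i]
    · rw [monoGL_apply, if_pos rfl]
    · intro b _ hb; rw [monoGL_apply, if_neg fun e => hb (π.injective e), zero_mul]
    · simp
  refine ⟨UTv.mem_GU.2 fun u v => ?_, mem_specialLinear.2 ?_⟩
  · obtain ⟨x, rfl⟩ : ∃ x, (P : Matrix (Fin (d + 2)) (Fin (d + 2)) F) *ᵥ x = u :=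
      ⟨_, mulVec_inv_mulVec P u⟩
    obtain ⟨y, rfl⟩ : ∃ y, (P : Matrix (Fin (d + 2)) (Fin (d + 2)) F) *ᵥ y = v :=
      ⟨_, mulVec_inv_mulVec P v⟩
    simp only [el, Matrix.mulVec_mulVec, ← Units.val_mul, inv_mul_cancel_right]
    rw [Units.val_mul, ← Matrix.mulVec_mulVec, ← Matrix.mulVec_mulVec, hP, hP, ← Equiv.sum_comp π]
    refine Finset.sum_congr rfl fun i _ => ?_
    rw [← hπ, hM, hM, hπ, mul_pow]
    linear_combination (x i * y (sw d i) ^ q) * ht (π i)
  · rw [el, Units.val_mul, Units.val_mul, Matrix.det_mul, Matrix.det_mul, mul_right_comm, ← Matrix.det_mul,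
      Units.mul_inv, Matrix.det_one, one_mul]
    rw [show (monoGL t π : Matrix (Fin (d + 2)) (Fin (d + 2)) F) = Matrix.diagonal (fun i => (t i : F)) * (π⁻¹).permMatrix F from ?_, Matrix.det_mul,
      Matrix.det_diagonal, Matrix.det_permutation, Equiv.Perm.sign_inv, hdet]
    ext i j
    rw [monoGL_apply, Matrix.diagonal_mul, Equiv.Perm.permMatrix]
    simp only [PEquiv.toMatrix_apply, Equiv.toPEquiv_apply, Option.mem_def, Option.some.injEq, Equiv.Perm.inv_def]
    by_cases h : π j = i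
    · rw [if_pos h, ← h]; simp
    · rw [if_neg h, if_neg fun e => h (by rw [← e, Equiv.apply_symm_apply]), mul_zero]

omit hP in
theorem eich_scale {A : GL (Fin (d + 2)) F} {v x : Fin (d + 2) → F} {s l : F}
    (hA : IsEich q A (l • v) x s) : IsEich q A v (l ^ q • x) (s * l ^ (q + 1)) := by
  intro y
  rw [hA y, CfsgLib.Unitary.herm_smul_right hF, CfsgLib.Unitary.herm_smul_right hF, pow_q_q hF]
  module

omit hP in
theorem vp_conj {S : Subgroup (GL (Fin (d + 2)) F)} (hS : S ≤ suGL (d + 2) F q) {g : GL (Fin (d + 2)) F}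
    (hg : g ∈ S) {v w x z : Fin (d + 2) → F} {l m : F}
    (hv : (g : Matrix (Fin (d + 2)) (Fin (d + 2)) F) *ᵥ v = l • w)
    (hx : (g : Matrix (Fin (d + 2)) (Fin (d + 2)) F) *ᵥ x = m • z) (h : VP q S v x) :
    hh ((l ^ q * m) • z) w = 0 → VP q S w ((l ^ q * m) • z) := fun h0 => by
  obtain ⟨-, A, hA, s, hs⟩ := h.conj hS hg
  rw [hv, hx] at hs
  refine ⟨h0, A, hA, s * l ^ (q + 1), ?_⟩
  rw [mul_smul]
  exact eich_scale hF hs

omit hP in
theorem full_of_line {S : Subgroup (GL (Fin (d + 2)) F)} {v z : Fin (d + 2) → F} (hv : hh v v = 0)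
    (hz : hh z v = 0) (hzz : hh z z = 1) (h : ∀ c : F, VP q S v (c • z)) : Full q S v := by
  have hf := isUnitaryForm hF (n := d + 2)
  refine full_of_mem hF hv fun c hc => ?_
  obtain ⟨t, ht⟩ := CfsgLib.Geo.Unit.exists_trace_one hf.ne_refl hf.involutive
  set l := -c * t with hl
  have hcl : frobEquiv hF l - l = c := by
    have h1 : frobEquiv hF c = -c := by rw [frobEquiv_apply]; linear_combination hc
    rw [hl, map_mul, map_neg, h1]
    linear_combination c * ht
  clear_value l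
  obtain ⟨-, A, hA, s, hs⟩ : VP q S v z := by simpa using h 1
  obtain ⟨hwv, A', hA', s', hs'⟩ := h l
  have h1 := hs.mul hF hv hwv hz hs'
  have h3 := hs'.mul hF hv hz hwv hs
  rw [CfsgLib.Geo.Unit.smul_right hf, hzz, mul_one] at h3
  rw [hf.smul_left, hzz, mul_one] at h1
  have hm := S.mul_mem (S.mul_mem hA hA') (S.inv_mem (S.mul_mem hA' hA))
  suffices A * A' * (A' * A)⁻¹ = tvec v (uax q v c) (uax_dot_self hv c) by rwa [this] at hm
  rw [mul_inv_eq_iff_eq_mul]
  refine gl_ext_mulVec fun y => ?_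
  rw [h1, mul_mulVec (tvec v _ _), utv_mulVec hF hv, h3, ← hcl]
  simp only [hf.add_left, hf.smul_left, hv, hz, mul_zero, add_zero, CfsgLib.Geo.Unit.add_right hf]
  module

omit hP in
theorem eich_mem_of_full {S : Subgroup (GL (Fin (d + 2)) F)} (hS : S ≤ suGL (d + 2) F q)
    {v x : Fin (d + 2) → F} (hfull : Full q S v) (hv0 : v ≠ 0) (h : VP q S v x) {A : GL (Fin (d + 2)) F} {s : F}
    (hA : IsEich q A v x s) (hAm : A ∈ suGL (d + 2) F q) : A ∈ S := by
  obtain ⟨hxv, B, hB, s', hs'⟩ := h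
  have hf := isUnitaryForm hF (n := d + 2)
  have key : ∀ {C : GL (Fin (d + 2)) F} {t : F}, C ∈ suGL (d + 2) F q → IsEich q C v x t →
      t + t ^ q + hh x x = 0 := by
    intro C t hC hCe
    obtain ⟨r, hr⟩ := (hf.nondegenerate v hv0).1
    have e := herm_mulVec hC r r
    rw [hCe r] at e
    simp only [hf.add_left, hf.smul_left, CfsgLib.Geo.Unit.add_right hf, CfsgLib.Geo.Unit.smul_right hf,
      hfull.1, hxv, map_sub, map_mul, ← hf.herm v r, ← hf.herm x r, frobEquiv_apply hF t] at e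
    rw [hf.herm v x, hxv, map_zero] at e
    have hrv : hh r v ≠ 0 := hr
    have hvr : hh v r ≠ 0 := by rw [hf.herm, Ne, map_eq_zero]; exact hrv
    refine (mul_eq_zero.1 (?_ : (hh r v * hh v r) * (t + t ^ q + hh x x) = 0)).resolve_left (mul_ne_zero hrv hvr)
    linear_combination e
  have hc : s - s' + (s - s') ^ q = 0 := by
    have h1 := key hAm hA
    have h2 := key (hS hB) hs'
    rw [← CfsgLib.Forms.frobQ_apply hF, map_sub, CfsgLib.Forms.frobQ_apply, CfsgLib.Forms.frobQ_apply]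
    linear_combination h1 - h2
  obtain ⟨hd, hm⟩ := hfull.2 _ hc
  have e : A = B * tvec v (uax q v (s - s')) hd := by
    refine gl_ext_mulVec fun y => ?_
    rw [mul_mulVec, utv_mulVec hF hfull.1, hA y, hs', hf.add_left, hf.add_left, hf.smul_left, hf.smul_left,
      hfull.1, hf.herm v x, hxv, map_zero]
    module
  rw [e]
  exact S.mul_mem hB hm

omit hP in
theorem swap_mem {S : Subgroup (GL (Fin (d + 2)) F)} {e f : Fin (d + 2) → F} (hfe : Full q S e) (hff : Full q S f)
    (hef : hh e f = 1) : ∃ w ∈ S, ∃ k : F, k ≠ 0 ∧ (w : Matrix (Fin (d + 2)) (Fin (d + 2)) F) *ᵥ e = k • f ∧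
      (w : Matrix (Fin (d + 2)) (Fin (d + 2)) F) *ᵥ f = (-k⁻¹) • e ∧
      ∀ y, hh y e = 0 → hh y f = 0 → (w : Matrix (Fin (d + 2)) (Fin (d + 2)) F) *ᵥ y = y := by
  have hf' := isUnitaryForm hF (n := d + 2)
  have hfe' : hh f e = 1 := by rw [hf'.herm, hef, map_one]
  obtain ⟨c, hc0, hc⟩ := CfsgLib.Unitary.exists_skew hF
  have hci : -c⁻¹ + (-c⁻¹) ^ q = 0 := by
    have h1 : c ^ q = -c := by linear_combination hc
    rw [← CfsgLib.Forms.frobQ_apply hF, map_neg, map_inv₀, CfsgLib.Forms.frobQ_apply, h1, inv_neg]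
    ring
  obtain ⟨hd, hm⟩ := hfe.2 c hc
  obtain ⟨hd', hm'⟩ := hff.2 (-c⁻¹) hci
  refine ⟨_, mul_mem (mul_mem hm hm') hm, -c⁻¹, neg_ne_zero.2 (inv_ne_zero hc0), ?_, ?_, fun y hye hyf => ?_⟩
  all_goals simp only [mul_mulVec, utv_mulVec hF hfe.1, utv_mulVec hF hff.1, hf'.add_left, hf'.smul_left,
    hfe.1, hff.1, hef, hfe', mul_zero, add_zero, zero_add, mul_one, zero_mul, zero_smul]
  · match_scalars <;> field_simp <;> ring
  · match_scalars <;> field_simp <;> ring
  · simp [hye, hyf]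

theorem suGL_le {S : Subgroup (GL (Fin (d + 2)) F)} (hS : S ≤ suGL (d + 2) F q) (hd : 1 ≤ d)
    (h32 : d = 1 → q ≠ 2) (hvp : ∀ i : Fin (d + 2), 2 ≤ (i : ℕ) → ∀ c : F, VP q S (vec P 0) (c • vec P i))
    {g : GL (Fin (d + 2)) F} (hg : g ∈ S) {a : F} (ha : a ≠ 0)
    (hg0 : (g : Matrix (Fin (d + 2)) (Fin (d + 2)) F) *ᵥ vec P 0 = a • vec P 1) :
    suGL (d + 2) F q ≤ S := by
  have hf := isUnitaryForm hF (n := d + 2)
  have hv : hh (vec P 0) (vec P 0) = 0 := by
    rw [herm_vec hF hP, if_neg (by simp [sw])]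
  have huv : hh (vec P 1) (vec P 0) ≠ 0 := by
    rw [herm_vec hF hP, if_pos (by simp [sw])]; exact one_ne_zero
  have hall : ∀ x, hh x (vec P 0) = 0 → VP q S (vec P 0) x := by
    intro x hx
    obtain ⟨x', rfl⟩ : ∃ x', (P : Matrix (Fin (d + 2)) (Fin (d + 2)) F) *ᵥ x' = x := ⟨_, mulVec_inv_mulVec P x⟩
    rw [vec, hP, Finset.sum_eq_single 1] at hx
    swap
    · intro k _ hk
      rw [Pi.single_eq_of_ne, zero_pow (by have := CfsgLib.Forms.two_le_q hF; omega), mul_zero]
      intro e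
      exact hk ((sw d).injective (e.trans (by simp [sw])))
    swap
    · simp
    simp [sw] at hx
    have hdec : (P : Matrix (Fin (d + 2)) (Fin (d + 2)) F) *ᵥ x' = ∑ i, x' i • vec P i := by
      simp only [vec, ← Matrix.mulVec_smul, ← Matrix.mulVec_sum]
      congr 1
      funext k
      simp [Pi.single_apply]
    rw [hdec]
    refine Finset.sum_induction _ (VP q S (vec P 0)) (fun a b ha hb => ha.add hF hv hb) ?_ fun i _ => ?_
    · simpa using VP.centre hF (M := S) hv 0
    · by_cases h2 : 2 ≤ (i : ℕ)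
      · exact hvp i h2 _
      · rcases Nat.eq_zero_or_pos (i : ℕ) with h0 | h0
        · rw [show i = 0 from Fin.ext h0]; exact VP.centre hF hv _
        · rw [show i = 1 from Fin.ext (by rw [Fin.val_one]; omega), hx, zero_smul]
          simpa using VP.centre hF (M := S) hv 0
  have h2v : hh (vec P ⟨2, by omega⟩) (vec P 0) = 0 := by
    rw [herm_vec hF hP, if_neg]
    rw [sw, Equiv.swap_apply_of_ne_of_ne] <;> simp [Fin.ext_iff]
  have h22 : hh (vec P ⟨2, by omega⟩) (vec P ⟨2, by omega⟩) = 1 := by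
    rw [herm_vec hF hP, if_pos]
    rw [sw, Equiv.swap_apply_of_ne_of_ne] <;> simp [Fin.ext_iff]
  have hvF : Full q S (vec P 0) := full_of_vp hF hv hall h2v h2v h22
  have huF : Full q S (vec P 1) := by
    have := full_smul hF (full_conj hF hS hvF hg) a⁻¹
    rwa [hg0, smul_smul, inv_mul_cancel₀ ha, one_smul] at this
  by_cases h1 : d = 1
  swap
  · exact suGL_le_of_vp hF (by omega) hS hvF huF huv hall
  subst h1
  set v := vec P 0
  set u := vec P 1
  set β := hh u v
  have hfar : ∀ y, hh y y = 0 → hh y v ≠ 0 → Full q S y := by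
    intro y hy hyv
    set c := β / hh y v
    set x := β⁻¹ • (c • y - u) with hx
    have hxv : hh x v = 0 := by
      rw [hx, hf.smul_left, sub_eq_add_neg, ← neg_one_smul F u, hf.add_left, hf.smul_left, hf.smul_left,
        div_mul_cancel₀ _ hyv]
      ring
    obtain ⟨-, A, hA, s, hs⟩ := hall x hxv
    have h1 := full_conj hF hS huF hA
    rw [hs u, show hh u v = β from rfl, show u + β • x = c • y by
      rw [hx, smul_smul, mul_inv_cancel₀ huv, one_smul, add_sub_cancel]] at h1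
    set e := s * β - hh u x
    have hcy : Full q S (c • y) := by
      have h2 := full_add_smul hF hS hvF h1
        (by rw [hf.add_left, hf.smul_left, hf.smul_left, hvF.1, mul_zero, add_zero]
            exact mul_ne_zero (div_ne_zero huv hyv) hyv)
        (-e) (by
          rw [show c • y + e • v + (-e) • v = c • y by module, hf.smul_left, CfsgLib.Geo.Unit.smul_right hf, hy,
            mul_zero, mul_zero])
      rwa [show c • y + e • v + (-e) • v = c • y by module] at h2
    have h3 := full_smul hF hcy c⁻¹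
    rwa [smul_smul, inv_mul_cancel₀ (div_ne_zero huv hyv), one_smul] at h3
  have hfull : ∀ y, hh y y = 0 → Full q S y := by
    intro y hy
    by_cases hyv : hh y v = 0
    swap
    · exact hfar y hy hyv
    obtain ⟨y', rfl⟩ : ∃ y', (P : Matrix (Fin (1 + 2)) (Fin (1 + 2)) F) *ᵥ y' = y := ⟨_, mulVec_inv_mulVec P y⟩
    have hq := CfsgLib.Forms.two_le_q hF
    rw [hP, Fin.sum_univ_three] at hy
    simp only [v, vec] at hyv
    rw [hP, Fin.sum_univ_three] at hyv
    have e0 : sw 1 0 = 1 := by simp [sw]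
    have e1 : sw 1 1 = 0 := by simp [sw]
    have e2 : sw 1 2 = 2 := Equiv.swap_apply_of_ne_of_ne (by decide) (by decide)
    rw [e0, e1, e2] at hy hyv
    have hy1 : y' 1 = 0 := by
      simpa [zero_pow (show q ≠ 0 by omega), show (2 : Fin 3) ≠ 0 by decide] using hyv
    rw [hy1, zero_pow (show q ≠ 0 by omega), mul_zero, zero_mul, zero_add, zero_add] at hy
    have hy2 : y' 2 = 0 := by
      rcases mul_eq_zero.1 hy with h | h
      · exact h
      · exact eq_zero_of_pow_eq_zero h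
    have : (P : Matrix (Fin (1 + 2)) (Fin (1 + 2)) F) *ᵥ y' = y' 0 • v := by
      show _ = y' 0 • ((P : Matrix (Fin (1 + 2)) (Fin (1 + 2)) F) *ᵥ Pi.single 0 1)
      rw [← Matrix.mulVec_smul]
      congr 1
      funext k
      fin_cases k <;> simp [hy1, hy2]
    rw [this]
    exact full_smul hF hvF _
  intro g₁ hg₁
  let g' : Cfsg.SU (1 + 2) F q :=
    ⟨⟨(g₁ : Matrix (Fin (1 + 2)) (Fin (1 + 2)) F), mem_specialLinear.1 hg₁.2⟩, fun a b => herm_mulVec hg₁ a b⟩
  have hg' : g' ∈ CfsgLib.Unitary.tvGroup (1 + 2) F q := by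
    rw [CfsgLib.Unitary.tvGroup_eq_top hF (by omega) (fun h => h32 rfl h.2)]; trivial
  have hle : CfsgLib.Unitary.tvGroup (1 + 2) F q ≤
      (S.comap (Matrix.SpecialLinearGroup.toGL.comp (Cfsg.SU (1 + 2) F q).subtype)) := by
    refine (Subgroup.closure_le _).2 ?_
    rintro A ⟨w, c, hw, hA⟩
    rcases eq_or_ne w 0 with rfl | hw0
    · have : A = 1 := CfsgLib.Unitary.su_ext fun x => by
        rw [hA, CfsgLib.Unitary.utv_mulVec, smul_zero, add_zero, CfsgLib.Unitary.suMat_one, Matrix.one_mulVec]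
      rw [this]; exact one_mem _
    have hc : c + c ^ q = 0 := (CfsgLib.Unitary.utv_preserves_iff hF hw0 hw c).1 fun x y => by
      rw [← hA]; exact CfsgLib.Unitary.su_preserves A x y
    obtain ⟨hd', hm⟩ := (hfull w hw).2 c hc
    have e : Matrix.SpecialLinearGroup.toGL (A : Matrix.SpecialLinearGroup (Fin (1 + 2)) F) =
        tvec w (uax q w c) hd' := by
      refine gl_ext_mulVec fun x => ?_
      rw [utv_mulVec hF hw, ← CfsgLib.Unitary.utv_mulVec, ← hA]
      rfl
    change Matrix.SpecialLinearGroup.toGL (A : Matrix.SpecialLinearGroup (Fin (1 + 2)) F) ∈ S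
    rw [e]; exact hm
  have := hle hg'
  rwa [Subgroup.mem_comap, show (Matrix.SpecialLinearGroup.toGL.comp (Cfsg.SU (1 + 2) F q).subtype) g' = g₁ from
    Units.ext rfl] at this

end CfsgLib.TwoGen.Unit
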